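import Mathlib
import Groth.Agent.Algz7.CohFormal
import Groth.Agent.Algz7.Restrict
import Groth.Prelude.Def_ARSys

/-!
# Systems of modules killed by the powers of one element
-/

set_option autoImplicit false
set_option linter.style.haveILetI false
set_option backward.isDefEq.respectTransparency false
set_option backward.isDefEq.respectTransparency.types false

universe u

open CategoryTheory CategoryTheory.Limits AlgebraicGeometry Opposite

noncomputable section

namespace Groth.Agent.PunctAlg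

open Groth.Agent

variable {A : Type u} [CommRing A] {X : Scheme.{u}} [X.Over (Spec (CommRingCat.of A))]

theorem smulMod_mul (M : X.Modules) (a b : A) :
    Formal.smulMod A M (a * b) = Formal.smulMod A M b ≫ Formal.smulMod A M a := by
  apply SheafOfModules.Hom.ext
  ext U m
  show Coh.resTop X U (Coh.toGlobal (X ↘ Spec (CommRingCat.of A)) (a * b)) • m =
    Coh.resTop X U (Coh.toGlobal (X ↘ Spec (CommRingCat.of A)) a) •
      (Coh.resTop X U (Coh.toGlobal (X ↘ Spec (CommRingCat.of A)) b) • m)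
  rw [map_mul, map_mul, mul_smul]

theorem smulMod_one (M : X.Modules) : Formal.smulMod A M (1 : A) = 𝟙 M := by
  apply SheafOfModules.Hom.ext
  ext U m
  show Coh.resTop X U (Coh.toGlobal (X ↘ Spec (CommRingCat.of A)) 1) • m = m
  rw [map_one, map_one, one_smul]

variable (t : A) {G : ℕᵒᵖ ⥤ X.Modules} (hG : Formal.IsCohFormal (Ideal.span {t}) G)

/-- The transition map between consecutive levels. -/
abbrev ρ (G : ℕᵒᵖ ⥤ X.Modules) (k : ℕ) : G.obj (op (k + 1)) ⟶ G.obj (op k) :=
  G.map (homOfLE (Nat.le_succ k)).op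

theorem tr_succ (G : ℕᵒᵖ ⥤ X.Modules) {n m : ℕ} (h : n ≤ m) :
    ARSys.tr G (h.trans (Nat.le_succ m)) = ρ G m ≫ ARSys.tr G h :=
  (Algz7.tr_trans G h (Nat.le_succ m)).symm

include hG

theorem pow_kill (k : ℕ) : Formal.smulMod A (G.obj (op k)) (t ^ (k + 1)) = 0 :=
  hG.2.1 k _ (Ideal.pow_mem_pow (Ideal.mem_span_singleton_self t) (k + 1))

theorem comp_eq_zero_of_pow (k : ℕ) {N : X.Modules} (φ : G.obj (op (k + 1)) ⟶ N)
    (h : Formal.smulMod A (G.obj (op (k + 1))) (t ^ (k + 1)) ≫ φ = 0) :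
    Formal.smulFamily (Ideal.span {t} ^ (k + 1)) (G.obj (op (k + 1))) ≫ φ = 0 := by
  apply Sigma.hom_ext
  rintro ⟨a, ha⟩
  rw [comp_zero, ← Category.assoc, Formal.smulFamily, Sigma.ι_desc]
  rw [Ideal.span_singleton_pow, Ideal.mem_span_singleton'] at ha
  obtain ⟨b, rfl⟩ := ha
  show Formal.smulMod A (G.obj (op (k + 1))) (b * t ^ (k + 1)) ≫ φ = 0
  rw [mul_comm, smulMod_mul, Category.assoc, h, comp_zero]

theorem exists_desc (k : ℕ) {N : X.Modules} (φ : G.obj (op (k + 1)) ⟶ N)
    (h : Formal.smulMod A (G.obj (op (k + 1))) (t ^ (k + 1)) ≫ φ = 0) :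
    ∃ ψ : G.obj (op k) ⟶ N, ρ G k ≫ ψ = φ :=
  Algz7.IsQuot.desc (J := Ideal.span {t} ^ (k + 1)) (g := ρ G k) (hG.2.2 k) φ (comp_eq_zero_of_pow t hG k φ h)

theorem exists_inc (k : ℕ) : ∃ ψ : G.obj (op k) ⟶ G.obj (op (k + 1)),
    ρ G k ≫ ψ = Formal.smulMod A (G.obj (op (k + 1))) t :=
  exists_desc t hG k _ (by rw [← smulMod_mul, ← pow_succ', pow_kill t hG (k + 1)])

/-- Multiplication by `t` into the next level. -/
def inc (k : ℕ) : G.obj (op k) ⟶ G.obj (op (k + 1)) := (exists_inc t hG k).choose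

theorem ρ_inc (k : ℕ) : ρ G k ≫ inc t hG k = Formal.smulMod A (G.obj (op (k + 1))) t :=
  (exists_inc t hG k).choose_spec

theorem inc_ρ (k : ℕ) : inc t hG (k + 1) ≫ ρ G (k + 1) = ρ G k ≫ inc t hG k := by
  haveI := Algz7.epi_step hG (k + 1)
  rw [← cancel_epi (ρ G (k + 1)), ← Category.assoc, ρ_inc, ρ_inc, Algz7.smulMod_naturality]

theorem inc_comp (k : ℕ) : inc t hG k ≫ ρ G k = Formal.smulMod A (G.obj (op k)) t := by
  haveI := Algz7.epi_step hG k
  rw [← cancel_epi (ρ G k), ← Category.assoc, ρ_inc, Algz7.smulMod_naturality]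

/-- Multiplication by `t ^ j` from level `k` to level `k + j`. -/
def incIter (k : ℕ) : ∀ j, G.obj (op k) ⟶ G.obj (op (k + j))
  | 0 => 𝟙 _
  | j + 1 => incIter k j ≫ inc t hG (k + j)

theorem pr_inc : ∀ k, inc t hG k ≫ ARSys.tr G (Nat.zero_le (k + 1)) = 0 := by
  intro k
  induction k with
  | zero =>
    rw [show ARSys.tr G (Nat.zero_le (0 + 1)) = ρ G 0 from rfl, inc_comp]
    simpa using pow_kill t hG 0
  | succ k ih =>
    rw [tr_succ G (Nat.zero_le (k + 1)), ← Category.assoc, inc_ρ, Category.assoc, ih, comp_zero]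

theorem pow_comp (k : ℕ) : ∀ j : ℕ, ARSys.tr G (Nat.le_add_right k j) ≫ incIter t hG k j =
    Formal.smulMod A (G.obj (op (k + j))) (t ^ j) := by
  intro j
  induction j with
  | zero =>
    rw [incIter, pow_zero, smulMod_one, Category.comp_id]
    exact Algz7.tr_refl G k
  | succ j ih =>
    rw [incIter]
    rw [show ARSys.tr G (Nat.le_add_right k (j + 1)) = ρ G (k + j) ≫ ARSys.tr G (Nat.le_add_right k j) from
      tr_succ G (Nat.le_add_right k j)]
    simp only [Category.assoc]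
    rw [reassoc_of% ih, ← Category.assoc, ← Algz7.smulMod_naturality, Category.assoc, ρ_inc, pow_succ,
      smulMod_mul, Algz7.smulMod_naturality]
    rfl

theorem exists_desc_pr : ∀ (k : ℕ) {N : X.Modules} (φ : G.obj (op k) ⟶ N),
    Formal.smulMod A (G.obj (op k)) t ≫ φ = 0 →
    ∃ ψ : G.obj (op 0) ⟶ N, ARSys.tr G (Nat.zero_le k) ≫ ψ = φ := by
  intro k
  induction k with
  | zero => intro N φ _; exact ⟨φ, by rw [Algz7.tr_refl, Category.id_comp]⟩
  | succ k ih =>
    intro N φ hφ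
    obtain ⟨χ, hχ⟩ := exists_desc t hG k φ (by rw [pow_succ', smulMod_mul, Category.assoc, hφ, comp_zero])
    haveI := Algz7.epi_step hG k
    obtain ⟨ψ, hψ⟩ := ih χ (by
      rw [← cancel_epi (ρ G k), ← Category.assoc, ← Algz7.smulMod_naturality, Category.assoc, hχ, hφ, comp_zero])
    exact ⟨ψ, by rw [tr_succ G (Nat.zero_le k), Category.assoc, hψ, hχ]⟩

theorem shortExact_inc (k : ℕ) [Mono (inc t hG k)] :
    (ShortComplex.mk (inc t hG k) (ARSys.tr G (Nat.zero_le (k + 1))) (pr_inc t hG k)).ShortExact := by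
  haveI := Algz7.epi_tr hG (Nat.zero_le (k + 1))
  refine { exact := ShortComplex.exact_of_g_is_cokernel _ ?_ }
  have h : ∀ {N : X.Modules} (φ : G.obj (op (k + 1)) ⟶ N), inc t hG k ≫ φ = 0 →
      ∃ ψ, ARSys.tr G (Nat.zero_le (k + 1)) ≫ ψ = φ := fun φ hφ =>
    exists_desc_pr t hG (k + 1) φ (by rw [← ρ_inc t hG k, Category.assoc, hφ, comp_zero])
  refine CokernelCofork.IsColimit.ofπ _ _ (fun φ hφ => (h φ hφ).choose) (fun φ hφ => (h φ hφ).choose_spec)
    (fun φ hφ m hm => (cancel_epi (ARSys.tr G (Nat.zero_le (k + 1)))).1 (hm.trans (h φ hφ).choose_spec.symm))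

variable (hmono : ∀ k, Mono (inc t hG k))

/-- The bottom level inside level `k`. -/
def bot : ∀ k, G.obj (op 0) ⟶ G.obj (op k)
  | 0 => 𝟙 _
  | k + 1 => bot k ≫ inc t hG k

theorem bot_comp (k : ℕ) : bot t hG (k + 1) ≫ ρ G k = 0 := by
  induction k with
  | zero =>
    rw [bot, bot, Category.id_comp, inc_comp]
    simpa using pow_kill t hG 0
  | succ k ih =>
    rw [bot, Category.assoc, inc_ρ, ← Category.assoc, ih, zero_comp]

theorem tr_bot : ∀ k, ARSys.tr G (Nat.zero_le k) ≫ bot t hG k = Formal.smulMod A (G.obj (op k)) (t ^ k) := by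
  intro k
  induction k with
  | zero => rw [bot, pow_zero, smulMod_one, Category.comp_id]; exact Algz7.tr_refl G 0
  | succ k ih =>
    rw [bot, tr_succ G (Nat.zero_le k)]
    simp only [Category.assoc]
    rw [reassoc_of% ih, ← Category.assoc, ← Algz7.smulMod_naturality, Category.assoc, ρ_inc, pow_succ,
      smulMod_mul, Algz7.smulMod_naturality]

include hmono in
theorem mono_bot : ∀ k, Mono (bot t hG k)
  | 0 => by rw [bot]; infer_instance
  | k + 1 => by
    haveI := mono_bot k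
    haveI := hmono k
    rw [bot]
    exact mono_comp _ _

include hmono in
theorem shortExact_bot (k : ℕ) :
    (ShortComplex.mk (bot t hG (k + 1)) (ρ G k) (bot_comp t hG k)).ShortExact := by
  haveI := Algz7.epi_step hG k
  haveI := mono_bot t hG hmono (k + 1)
  refine { exact := ShortComplex.exact_of_g_is_cokernel _ ?_ }
  have h : ∀ {N : X.Modules} (φ : G.obj (op (k + 1)) ⟶ N), bot t hG (k + 1) ≫ φ = 0 → ∃ ψ, ρ G k ≫ ψ = φ :=
    fun φ hφ => exists_desc t hG k φ (by rw [← tr_bot t hG (k + 1), Category.assoc, hφ, comp_zero])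
  refine CokernelCofork.IsColimit.ofπ _ _ (fun φ hφ => (h φ hφ).choose) (fun φ hφ => (h φ hφ).choose_spec)
    (fun φ hφ m hm => (cancel_epi (ρ G k)).1 (hm.trans (h φ hφ).choose_spec.symm))

theorem incIter_tr : ∀ (k j : ℕ), incIter t hG k (j + 1) ≫ ARSys.tr G (show j ≤ k + (j + 1) by omega) = 0 := by
  intro k
  induction k with
  | zero =>
    intro j
    haveI := Algz7.epi_tr hG (Nat.le_add_right 0 (j + 1))
    rw [← cancel_epi (ARSys.tr G (Nat.le_add_right 0 (j + 1))), ← Category.assoc, pow_comp, comp_zero,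
      Algz7.smulMod_naturality, pow_kill t hG j, comp_zero]
  | succ k ih =>
    intro j
    haveI := Algz7.epi_tr hG (Nat.le_add_right (k + 1) (j + 1))
    rw [← cancel_epi (ARSys.tr G (Nat.le_add_right (k + 1) (j + 1))), ← Category.assoc, pow_comp, comp_zero,
      Algz7.smulMod_naturality, pow_kill t hG j, comp_zero]

end Groth.Agent.PunctAlg
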