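import Groth.Agent.PunctAlg.StalkPhi
import Groth.Agent.LC.Finiteness
import Groth.Agent.LC.CohCech
import Groth.Agent.ExtShX.StalkClosed
import Groth.Agent.H23.InvStalk

/-!
# Local cohomology of the module of an invertible sheaf on a divisor
-/

set_option autoImplicit false
set_option linter.style.haveILetI false
set_option linter.unusedSectionVars false
set_option backward.isDefEq.respectTransparency false
set_option backward.isDefEq.respectTransparency.types false

universe u

open CategoryTheory CategoryTheory.Limits AlgebraicGeometry TopologicalSpace Opposite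

noncomputable section

namespace Groth.Agent.PunctAlg

open Groth.Agent

variable {A : Type u} [CommRing A]

/-- Factorisation of multiplication by an element through a cyclic module. -/
theorem exists_factor {N : Type u} [AddCommGroup N] [Module A N] [IsNoetherianRing A] [Module.Finite A N]
    (J : Ideal A) (p : Ideal A) [p.IsPrime] (e : N) (hJe : ∀ a ∈ J, a • e = 0)
    (hgen : ∀ n : N, ∃ h a : A, h ∉ p ∧ h • n = a • e)
    (hker : ∀ a : A, a • e = 0 → ∃ h : A, h ∉ p ∧ h * a ∈ J) :
    ∃ g : A, g ∉ p ∧ ∃ (φ : N →ₗ[A] A ⧸ J) (s : A ⧸ J →ₗ[A] N), ∀ n, s (φ n) = g • n := by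
  classical
  obtain ⟨k, f, hf⟩ := Module.Finite.exists_fin (R := A) (M := N)
  choose hh aa hhp hha using fun j => hgen (f j)
  let h := ∏ j, hh j
  have hp : h ∉ p := fun hmem => by
    obtain ⟨j, -, hj⟩ := Ideal.IsPrime.prod_mem_iff.1 hmem
    exact hhp j hj
  let ψ : A →ₗ[A] N := LinearMap.toSpanSingleton A N e
  have hN : ∀ n, h • n ∈ LinearMap.range ψ := fun n => by
    have : (⊤ : Submodule A N) ≤ (LinearMap.range ψ).comap (LinearMap.lsmul A N h) := by
      rw [← hf, Submodule.span_le]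
      rintro _ ⟨j, rfl⟩
      refine ⟨(∏ i ∈ Finset.univ.erase j, hh i) * aa j, ?_⟩
      show ((∏ i ∈ Finset.univ.erase j, hh i) * aa j) • e = h • f j
      rw [mul_smul, ← hha, smul_smul, mul_comm, Finset.mul_prod_erase _ _ (Finset.mem_univ j)]
    exact this Submodule.mem_top
  obtain ⟨k', f', hf'⟩ := Module.Finite.exists_fin (R := A) (M := LinearMap.ker ψ)
  choose hk hkp hkJ using fun j => hker (f' j : A) (f' j).2
  let h' := ∏ j, hk j
  have hp' : h' ∉ p := fun hmem => by
    obtain ⟨j, -, hj⟩ := Ideal.IsPrime.prod_mem_iff.1 hmem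
    exact hkp j hj
  have hann : ∀ a ∈ LinearMap.ker ψ, h' * a ∈ J := fun a ha => by
    have : (⊤ : Submodule A (LinearMap.ker ψ)) ≤
        (Submodule.comap (LinearMap.lsmul A A h') J).comap (LinearMap.ker ψ).subtype := by
      rw [← hf', Submodule.span_le]
      rintro _ ⟨j, rfl⟩
      show h' * (f' j : A) ∈ J
      rw [show h' = (∏ i ∈ Finset.univ.erase j, hk i) * hk j from
        (Finset.prod_erase_mul _ _ (Finset.mem_univ j)).symm, mul_assoc]
      exact J.mul_mem_left _ (hkJ j)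
    exact this (Submodule.mem_top (x := ⟨a, ha⟩))
  let E : A →ₗ[A] LinearMap.range ψ := ψ.rangeRestrict
  let T : A →ₗ[A] A ⧸ J := (Submodule.mkQ J).comp (LinearMap.lsmul A A h')
  have hT : LinearMap.ker ψ ≤ LinearMap.ker T := fun a ha =>
    (Submodule.Quotient.mk_eq_zero J).2 (hann a ha)
  let D : LinearMap.range ψ →ₗ[A] A ⧸ J :=
    (Submodule.liftQ (LinearMap.ker ψ) T hT).comp ψ.quotKerEquivRange.symm.toLinearMap
  have hD : ∀ a : A, D ⟨ψ a, a, rfl⟩ = T a := fun a => by
    have : ψ.quotKerEquivRange.symm ⟨ψ a, a, rfl⟩ = Submodule.Quotient.mk a := by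
      rw [LinearEquiv.symm_apply_eq]; rfl
    simp only [D, LinearMap.comp_apply, LinearEquiv.coe_coe, this, Submodule.liftQ_apply]
  let μ : N →ₗ[A] LinearMap.range ψ := LinearMap.codRestrict _ (LinearMap.lsmul A N h) hN
  refine ⟨h' * h, fun hm => (Ideal.IsPrime.mem_or_mem ‹_› hm).elim hp' hp, D.comp μ,
    Submodule.liftQ J ψ (fun a ha => hJe a ha), fun n => ?_⟩
  obtain ⟨a, ha⟩ := hN n
  have hμ : μ n = ⟨ψ a, a, rfl⟩ := Subtype.ext ha.symm
  rw [LinearMap.comp_apply, hμ, hD]
  show ψ (h' * a) = (h' * h) • n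
  rw [← smul_eq_mul, map_smul, ha, ← mul_smul]

/-- Annihilation of local cohomology passes along a factorisation. -/
theorem smul_H_eq_zero (a : Ideal A) (i : ℕ) {N Q : ModuleCat.{u} A} (φ : N ⟶ Q) (s : Q ⟶ N) (g c : A)
    (h : φ ≫ s = g • 𝟙 N) (hc : ∀ z : (localCohomology a i).obj Q, c • z = 0)
    (z : (localCohomology a i).obj N) : (c * g) • z = 0 := by
  have h1 : ((localCohomology a i).map s).hom (((localCohomology a i).map φ).hom z) = g • z := by
    rw [← LC.map_smul_id a i N g z, ← h, Functor.map_comp]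
    rfl
  rw [mul_smul, ← h1, ← map_smul, hc, map_zero]

variable [IsNoetherianRing A]

/-- Finiteness of local cohomology from local factorisations. -/
theorem finite_H_of_factors (a : Ideal A) (n : ℕ) (Q : ModuleCat.{u} A)
    (hQ : ∀ i ≤ n, Module.Finite A ((localCohomology a i).obj Q))
    (N : ModuleCat.{u} A) [Module.Finite A N]
    (h : ∀ p : Ideal A, p.IsPrime → ¬ a ≤ p → ∃ g : A, g ∉ p ∧ ∃ (φ : N ⟶ Q) (s : Q ⟶ N), φ ≫ s = g • 𝟙 N) :
    ∀ i ≤ n, Module.Finite A ((localCohomology a i).obj N) := by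
  have hk : ∀ i, ∃ m, i ≤ n → ∀ b ∈ a ^ m, ∀ z : (localCohomology a i).obj Q, b • z = 0 := fun i => by
    by_cases hi : i ≤ n
    · haveI := hQ i hi
      obtain ⟨m, hm⟩ := LC.exists_pow_smul_eq_zero_of_finite a ((localCohomology a i).obj Q)
        (LC.isPowerTorsion_obj a i Q)
      exact ⟨m, fun _ => hm⟩
    · exact ⟨0, fun h => absurd h hi⟩
  choose m hm using hk
  let J : Ideal A :=
    { carrier := {b | ∀ i ≤ n, ∀ z : (localCohomology a i).obj N, b • z = 0}
      add_mem' := fun hx hy i hi z => by rw [add_smul, hx i hi z, hy i hi z, add_zero]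
      zero_mem' := fun i hi z => zero_smul _ z
      smul_mem' := fun r x hx i hi z => by rw [smul_eq_mul, mul_smul, hx i hi z, smul_zero] }
  refine fun i hi => LC.finite_H_of_kill a n N J ?_ (fun i hi b hb z => hb i hi z) i hi
  rw [Ideal.radical_eq_sInf]
  refine le_sInf fun p hp => ?_
  by_contra hap
  obtain ⟨hJp, hprime⟩ := hp
  obtain ⟨g, hg, φ, s, hs⟩ := h p hprime hap
  obtain ⟨x, hxa, hxp⟩ := Set.not_subset.1 hap
  let M := Finset.sup (Finset.range (n + 1)) m
  have hmem : x ^ M * g ∈ J := fun i hi z => smul_H_eq_zero a i φ s g (x ^ M) hs (fun w =>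
    hm i hi _ (Ideal.pow_le_pow_right (Finset.le_sup (f := m) (Finset.mem_range.2 (Nat.lt_succ_of_le hi)))
      (Ideal.pow_mem_pow hxa M)) w) z
  exact (hprime.mem_or_mem (hJp hmem)).elim (fun h => hxp (hprime.mem_of_pow_mem M h)) hg

variable (U : (Spec (CommRingCat.of A)).Opens) (t : A)

omit [IsNoetherianRing A] in
theorem germA_eq_stalkMap (x : U.toScheme) (a : A) :
    germA U x a = U.ι.stalkMap x ((Spec (CommRingCat.of A)).presheaf.germ ⊤ (U.ι x) trivial
      ((Scheme.ΓSpecIso (CommRingCat.of A)).inv a)) := by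
  rw [germA, toGlobal_opens]
  exact (Scheme.Hom.germ_stalkMap_apply U.ι ⊤ x trivial _).symm

omit [IsNoetherianRing A] in
theorem exists_fraction {R : CommRingCat.{u}} (p : PrimeSpectrum.Top R) (r : (Spec R).presheaf.stalk p) :
    ∃ b h : R, h ∉ p.asIdeal ∧ (Spec R).presheaf.germ ⊤ p trivial ((Scheme.ΓSpecIso R).inv h) * r =
      (Spec R).presheaf.germ ⊤ p trivial ((Scheme.ΓSpecIso R).inv b) := by
  obtain ⟨⟨b, h, hh⟩, e⟩ := IsLocalization.surj (R := R) p.asIdeal.primeCompl
    (show (Spec.structureSheaf R).presheaf.stalk p from r)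
  exact ⟨b, h, hh, by rw [mul_comm]; exact e⟩

omit [IsNoetherianRing A] in
theorem exists_kill_germ {R : CommRingCat.{u}} (p : PrimeSpectrum.Top R) (b : R)
    (hb : (Spec R).presheaf.germ ⊤ p trivial ((Scheme.ΓSpecIso R).inv b) = 0) :
    ∃ h : R, h ∉ p.asIdeal ∧ h * b = 0 := by
  obtain ⟨⟨h, hh⟩, e⟩ := (IsLocalization.map_eq_zero_iff (R := R) p.asIdeal.primeCompl
    ((Spec.structureSheaf R).presheaf.stalk p) b).1 hb
  exact ⟨h, hh, e⟩

omit [IsNoetherianRing A] in
theorem exists_germA_fraction (x : U.toScheme) (r : U.toScheme.presheaf.stalk x) :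
    ∃ b h : A, h ∉ (U.ι x).asIdeal ∧ germA U x h * r = germA U x b := by
  obtain ⟨r, rfl⟩ := (ConcreteCategory.bijective_of_isIso (U.ι.stalkMap x)).2 r
  obtain ⟨b, h, hh, e⟩ := exists_fraction (R := CommRingCat.of A) (U.ι x) r
  exact ⟨b, h, hh, by rw [germA_eq_stalkMap, germA_eq_stalkMap, ← map_mul, e]⟩

omit [IsNoetherianRing A] in
theorem exists_kill_germA (x : U.toScheme) (b : A) (hb : germA U x b = 0) :
    ∃ h : A, h ∉ (U.ι x).asIdeal ∧ h * b = 0 :=
  exists_kill_germ (R := CommRingCat.of A) (U.ι x) b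
    ((ConcreteCategory.bijective_of_isIso (U.ι.stalkMap x)).1
      ((germA_eq_stalkMap U x b).symm.trans (hb.trans (map_zero _).symm)))

omit [IsNoetherianRing A] in
theorem isUnit_germA_of_notMem_support (x : U.toScheme) (hx : x ∉ (divOn U t).support) :
    IsUnit (germA U x t) := by
  obtain ⟨W, hW⟩ := FormalAlg.exists_affine x
  rw [Scheme.IdealSheafData.mem_support_iff_of_mem hW, ideal_divOn, Scheme.zeroLocus_span,
    Scheme.mem_zeroLocus_iff] at hx
  simp only [Set.mem_singleton_iff, forall_eq, not_not] at hx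
  have h := (U.toScheme.mem_basicOpen _ x hW).1 hx
  have e := U.toScheme.presheaf.germ_res_apply (homOfLE (le_top (a := W.1))) x hW
    (Coh.toGlobal (U.toScheme ↘ Spec (CommRingCat.of A)) t)
  rw [e] at h
  exact h

omit [IsNoetherianRing A] in
/-- The stalks of the direct image of an invertible module on the divisor. -/
theorem exists_gen_push (L : (divOn U t ^ (0 + 1)).subscheme.Modules) (hL : PicF.IsInvertible L) (x : U.toScheme) :
    ∃ v₀ : (DerSch.stalkFunctor U.toScheme x).obj ((Scheme.Modules.pushforward (divOn U t ^ (0 + 1)).subschemeι).obj L),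
      (∀ v, ∃ r : U.toScheme.presheaf.stalk x, r • v₀ = v) ∧ germA U x t • v₀ = 0 ∧
        ∀ r : U.toScheme.presheaf.stalk x, r • v₀ = 0 → r ∈ Ideal.span {germA U x t} := by
  let i := (divOn U t ^ (0 + 1)).subschemeι
  obtain ⟨W, hW⟩ := FormalAlg.exists_affine x
  have hst : DepthTwist.stI (divOn U t ^ (0 + 1)) W hW = Ideal.span {germA U x t} := by
    rw [LefLib.stI_pow, zero_add, pow_one, stI_divOn]
  by_cases hx' : x ∈ Set.range i
  · obtain ⟨z, rfl⟩ := hx'
    obtain ⟨ε⟩ := H23.InvStalk.exists_stalk_equiv hL z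
    let θ := ExtShX.stalkPushEquiv i L z
    let σ := (i.stalkMap z).hom
    have hσ : ∀ r, r ∈ Ideal.span {germA U (i z) t} ↔ σ r = 0 := fun r => by
      rw [← RingHom.mem_ker, CartierFP.ker_stalkMap_subschemeι (divOn U t ^ (0 + 1)) W z hW, ← hst]; rfl
    refine ⟨θ.symm (ε.symm 1), fun v => ?_, ?_, fun r hr => ?_⟩
    · obtain ⟨r, hr⟩ := i.stalkMap_surjective z (ε (θ v))
      refine ⟨r, θ.injective ?_⟩
      refine (ExtShX.stalkPushEquiv_smul i L z r _).trans ?_
      rw [θ.apply_symm_apply]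
      apply ε.injective
      rw [map_smul, ε.apply_symm_apply, smul_eq_mul, mul_one]
      exact hr
    · refine θ.injective ((ExtShX.stalkPushEquiv_smul i L z _ _).trans ?_)
      have h0 : σ (germA U (i z) t) = 0 := (hσ _).1 (Ideal.mem_span_singleton_self _)
      show σ (germA U (i z) t) • _ = _
      rw [h0, zero_smul, map_zero]
    · have h0 : σ r • θ (θ.symm (ε.symm 1)) = 0 :=
        (ExtShX.stalkPushEquiv_smul i L z r _).symm.trans ((congrArg θ hr).trans (map_zero θ))
      rw [θ.apply_symm_apply] at h0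
      have h1 := congrArg ε h0
      rw [map_smul, ε.apply_symm_apply, map_zero, smul_eq_mul, mul_one] at h1
      exact (hσ r).2 h1
  · haveI := H23.ClosedPushLen.subsingleton_stalk (f := i) L hx'
    have hu : IsUnit (germA U x t) := isUnit_germA_of_notMem_support U t x (by
      rw [Scheme.IdealSheafData.range_subschemeι, Scheme.IdealSheafData.support_pow_succ] at hx'
      exact hx')
    exact ⟨0, fun v => ⟨0, Subsingleton.elim
        (α := (((Scheme.Modules.pushforward i).obj L).presheaf.stalk x : Type u)) _ _⟩,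
      smul_zero _, fun r _ => by rw [Ideal.span_singleton_eq_top.2 hu]; trivial⟩

/-- Local factorisations for a module giving the direct image of an invertible module on the divisor. -/
theorem exists_factor_push (L : (divOn U t ^ (0 + 1)).subscheme.Modules) (hL : PicF.IsInvertible L)
    (N : ModuleCat.{u} A) [Module.Finite A N]
    (e : phi U N ≅ (Scheme.Modules.pushforward (divOn U t ^ (0 + 1)).subschemeι).obj L) (x : U.toScheme) :
    ∃ g : A, g ∉ (U.ι x).asIdeal ∧
      ∃ (φ : N ⟶ ModuleCat.of A (A ⧸ Ideal.span {t})) (s : ModuleCat.of A (A ⧸ Ideal.span {t}) ⟶ N),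
        φ ≫ s = g • 𝟙 N := by
  let Φ := ((DerSch.stalkFunctor U.toScheme x).mapIso e).toLinearEquiv
  obtain ⟨w₀, hw₀, hkill, hker₀⟩ := exists_gen_push U t L hL x
  let v₀ := Φ.symm w₀
  have hgen₀ : ∀ v, ∃ r : U.toScheme.presheaf.stalk x, r • v₀ = v := fun v => by
    obtain ⟨r, hr⟩ := hw₀ (Φ v)
    exact ⟨r, Φ.injective (by rw [map_smul, Φ.apply_symm_apply, hr])⟩
  have hkill₀ : germA U x t • v₀ = 0 := by
    rw [← map_smul, hkill, map_zero]
  have hker : ∀ r : U.toScheme.presheaf.stalk x, r • v₀ = 0 → r ∈ Ideal.span {germA U x t} := fun r hr => by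
    refine hker₀ r (Φ.symm.injective ?_)
    rw [map_smul, map_zero]
    exact hr
  obtain ⟨e₀, g₀, hg₀, he₀⟩ := exists_germM U N x v₀
  have ht0 : germM U N x (t • e₀) = 0 := by
    rw [germM_smul, ← he₀, smul_smul, mul_comm, mul_smul, hkill₀, smul_zero]
  obtain ⟨h₀, hh₀, hh₀'⟩ := (germM_eq_zero_iff U N x (t • e₀)).1 ht0
  let p := (U.ι x).asIdeal
  have H1 : ∀ n : N, ∃ h a : A, h ∉ p ∧ h • n = a • (h₀ • e₀) := by
    intro n
    obtain ⟨r, hr⟩ := hgen₀ (germM U N x n)
    have hu := (isUnit_germA U x g₀ hg₀).mul (isUnit_germA U x h₀ hh₀)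
    obtain ⟨u, hu'⟩ := hu
    obtain ⟨b, k, hk, hbk⟩ := exists_germA_fraction U x (r * (↑u⁻¹ : U.toScheme.presheaf.stalk x))
    have hz : germM U N x (k • n + (-b) • (h₀ • e₀)) = 0 := by
      have h1 : germA U x k • germM U N x n = germA U x b • germA U x h₀ • germM U N x e₀ := by
        rw [← hr, ← he₀, smul_smul, smul_smul, smul_smul, ← hbk]
        congr 1
        calc germA U x k * r = germA U x k * r * ((↑u⁻¹ : U.toScheme.presheaf.stalk x) * ↑u) := by
              rw [Units.inv_mul, mul_one]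
          _ = _ := by rw [hu']; ring
      rw [germM_add, germM_smul, germM_smul, germM_smul, h1, ← add_smul,
        show germA U x b + germA U x (-b) = 0 by simp [germA], zero_smul]
    obtain ⟨l, hl, hl'⟩ := (germM_eq_zero_iff U N x _).1 hz
    refine ⟨l * k, l * b, fun hm => ((U.ι x).2.mem_or_mem hm).elim hl hk, ?_⟩
    rw [smul_add, neg_smul, smul_neg, ← sub_eq_add_neg, sub_eq_zero] at hl'
    rw [mul_smul, mul_smul, hl']
  have H2 : ∀ a : A, a • (h₀ • e₀) = 0 → ∃ h : A, h ∉ p ∧ h * a ∈ Ideal.span {t} := by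
    intro a ha
    have h1 : (germA U x a * germA U x h₀ * germA U x g₀) • v₀ = 0 := by
      rw [mul_smul, he₀, mul_smul, ← germM_smul, ← germM_smul, ha]
      exact (germM_eq_zero_iff U N x 0).2 ⟨1, fun h => (U.ι x).2.ne_top ((Ideal.eq_top_iff_one _).2 h), smul_zero _⟩
    obtain ⟨r, hr⟩ := Ideal.mem_span_singleton'.1 (hker _ h1)
    obtain ⟨b, k, hk, hbk⟩ := exists_germA_fraction U x r
    have hz : germA U x (k * a * h₀ * g₀ - b * t) = 0 := by
      simp only [germA, map_sub, map_mul] at hr hbk ⊢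
      rw [← hbk, mul_assoc (_ * _) _ _, mul_assoc, mul_assoc, sub_eq_zero]
      rw [hr]; ring
    obtain ⟨l, hl, hl'⟩ := exists_kill_germA U x _ hz
    refine ⟨l * k * h₀ * g₀, fun hm => ?_, ?_⟩
    · rcases (U.ι x).2.mem_or_mem hm with h | h
      · rcases (U.ι x).2.mem_or_mem h with h | h
        · exact ((U.ι x).2.mem_or_mem h).elim hl hk
        · exact hh₀ h
      · exact hg₀ h
    · rw [mul_sub, sub_eq_zero] at hl'
      exact Ideal.mem_span_singleton'.2 ⟨l * b, by linear_combination -hl'⟩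
  obtain ⟨g, hg, φ, s, hs⟩ := exists_factor (N := N) (Ideal.span {t}) p (h₀ • e₀) (fun a ha => by
      obtain ⟨c, rfl⟩ := Ideal.mem_span_singleton'.1 ha
      rw [mul_smul, smul_comm t h₀, hh₀', smul_zero]) H1 H2
  exact ⟨g, hg, ModuleCat.ofHom φ, ModuleCat.ofHom s, ModuleCat.hom_ext (LinearMap.ext fun n => hs n)⟩

end Groth.Agent.PunctAlg
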