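import Groth.Agent.PunctAlg.Sect
import Groth.Agent.H1Punct.Main
import Groth.Agent.H1Punct.Torsion
import Groth.Agent.LC.CohDT
import Groth.Agent.LC.CohBasic
import Groth.Agent.S11600
import Groth.Agent.S11590
import Groth.Agent.S0356

/-!
# Finiteness of sections and first cohomology over an open of an affine scheme
-/

set_option autoImplicit false
set_option linter.style.haveILetI false
set_option linter.unusedSectionVars false
set_option backward.isDefEq.respectTransparency false
set_option backward.isDefEq.respectTransparency.types false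

universe u

open CategoryTheory CategoryTheory.Limits AlgebraicGeometry TopologicalSpace Opposite

noncomputable section

namespace Groth.Agent.PunctAlg

open Groth.Agent

variable {A : Type u} [CommRing A] (a : Ideal A)

local notation "U" => LocCoh.puncturedOpen A a

/-- The sheaf of a module on the open. -/
abbrev PhiU (N : ModuleCat.{u} A) : ((U : (Spec (CommRingCat.of A)).Opens) : Scheme.{u}).Modules :=
  (H1Punct.Φ U).obj N

/-- The unit `N~ → j_* j^* N~`. -/
abbrev unitMap (N : ModuleCat.{u} A) :=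
  (Scheme.Modules.restrictAdjunction (Scheme.Opens.ι U)).unit.app (tilde (R := CommRingCat.of A) N)

/-- The sections of `N~` over the open are the global sections of its restriction. -/
theorem exists_secIso (N : ModuleCat.{u} A) :
    ∃ s : H1Punct.Sec (R := CommRingCat.of A) N U ≅ (secF U).obj (PhiU a N),
      tilde.toOpen (R := CommRingCat.of A) N U ≫ s.hom =
        tilde.toOpen (R := CommRingCat.of A) N ⊤ ≫
          ((modulesSpecToSheaf.map (unitMap a N)).1.app (op ⊤)) := by
  let U₀ : (Spec (CommRingCat.of A)).Opens := U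
  let P := (Scheme.Modules.pushforward U₀.ι).obj (PhiU a N)
  let f := (modulesSpecToSheaf.map (unitMap a N)).1
  have h1 : Function.Bijective (f.app (op U₀)) := by
    show Function.Bijective ((unitMap a N).app U₀)
    rw [Scheme.Modules.restrictAdjunction_unit_app_app]
    have key : ∀ (V : (Spec (CommRingCat.of A)).Opens) (hV : V ≤ U₀), V = U₀ →
        Function.Bijective ((tilde (R := CommRingCat.of A) N).presheaf.map (homOfLE hV).op) := by
      rintro _ hV rfl
      rw [show (homOfLE hV).op = 𝟙 _ from rfl, (tilde (R := CommRingCat.of A) N).presheaf.map_id]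
      exact Function.bijective_id
    refine key _ _ ?_
    rw [Scheme.Hom.image_preimage_eq_opensRange_inf, Scheme.Opens.opensRange_ι, inf_idem]
  have h2 : Function.Bijective ((modulesSpecToSheaf.obj P).presheaf.map (homOfLE (le_top : U₀ ≤ ⊤)).op) := by
    show Function.Bijective ((PhiU a N).presheaf.map ((Opens.map U₀.ι.base).map (homOfLE (le_top : U₀ ≤ ⊤))).op)
    rw [← ConcreteCategory.isIso_iff_bijective]
    have key : ∀ (V W : U₀.toScheme.Opens) (h : V ⟶ W), V = W → IsIso ((PhiU a N).presheaf.map h.op) := by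
      rintro V W h rfl
      rw [show h = 𝟙 V from rfl, op_id, (PhiU a N).presheaf.map_id]
      infer_instance
    exact key _ _ _ (Scheme.Opens.ι_preimage_self U₀)
  haveI : IsIso (f.app (op U₀)) := (ConcreteCategory.isIso_iff_bijective _).2 h1
  haveI : IsIso ((modulesSpecToSheaf.obj P).presheaf.map (homOfLE (le_top : U₀ ≤ ⊤)).op) :=
    (ConcreteCategory.isIso_iff_bijective _).2 h2
  refine ⟨asIso (f.app (op U₀)) ≪≫
    (asIso ((modulesSpecToSheaf.obj P).presheaf.map (homOfLE (le_top : U₀ ≤ ⊤)).op)).symm, ?_⟩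
  rw [Iso.trans_hom, Iso.symm_hom, asIso_inv, asIso_hom]
  rw [← tilde.toOpen_res (R := CommRingCat.of A) N ⊤ U₀ (homOfLE (le_top : U₀ ≤ ⊤)), Category.assoc,
    NatTrans.naturality_assoc]
  have hinv := IsIso.hom_inv_id ((modulesSpecToSheaf.obj P).presheaf.map (homOfLE (le_top : U₀ ≤ ⊤)).op)
  exact congrArg (tilde.toOpen (R := CommRingCat.of A) N ⊤ ≫ ·)
    ((congrArg (f.app (op ⊤) ≫ ·) hinv).trans (Category.comp_id _))

/-- `N → Γ(U, N~)`. -/
def eSec (N : ModuleCat.{u} A) : N ⟶ (secF U).obj (PhiU a N) :=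
  tilde.toOpen (R := CommRingCat.of A) N ⊤ ≫ ((modulesSpecToSheaf.map (unitMap a N)).1.app (op ⊤))

theorem eSec_natural {N N' : ModuleCat.{u} A} (f : N ⟶ N') :
    eSec a N ≫ (secF U).map ((H1Punct.Φ U).map f) = f ≫ eSec a N' := by
  have h1 : (tilde.functor (CommRingCat.of A)).map f ≫ unitMap a N' =
      unitMap a N ≫ (Scheme.Modules.pushforward (Scheme.Opens.ι U)).map ((H1Punct.Φ U).map f) :=
    (Scheme.Modules.restrictAdjunction (Scheme.Opens.ι U)).unit.naturality _
  have h2 := congrArg (fun φ => (moduleSpecΓFunctor (R := CommRingCat.of A)).map φ) h1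
  simp only [Functor.map_comp] at h2
  rw [eSec, eSec, Category.assoc]
  refine (congrArg (tilde.toOpen (R := CommRingCat.of A) N ⊤ ≫ ·) h2.symm).trans ?_
  rw [← Category.assoc, ← Category.assoc]
  refine congrArg (· ≫ _) ?_
  exact ((tilde.adjunction (R := CommRingCat.of A)).unit.naturality f).symm

variable [IsNoetherianRing A]

theorem secF_torsionFree (N : ModuleCat.{u} A) (x : (secF U).obj (PhiU a N)) {n : ℕ}
    (h : ∀ b ∈ a ^ n, b • x = 0) : x = 0 := by
  obtain ⟨s, -⟩ := exists_secIso a N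
  obtain ⟨z, rfl⟩ := (ConcreteCategory.bijective_of_isIso s.hom).2 x
  rw [H1Punct.torsionFree (R := CommRingCat.of A) N a U rfl z fun b hb =>
    (ConcreteCategory.bijective_of_isIso s.hom).1 (by rw [map_smul, h b hb, map_zero]), map_zero]

theorem eSec_coker (N : ModuleCat.{u} A) (x : (secF U).obj (PhiU a N)) :
    ∃ n : ℕ, ∀ b ∈ a ^ n, b • x ∈ LinearMap.range (eSec a N).hom := by
  obtain ⟨s, hs⟩ := exists_secIso a N
  obtain ⟨z, rfl⟩ := (ConcreteCategory.bijective_of_isIso s.hom).2 x
  obtain ⟨n, hn⟩ := H1Punct.coker_torsion (R := CommRingCat.of A) N a U rfl z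
  refine ⟨n, fun b hb => ?_⟩
  obtain ⟨m, hm⟩ := hn b hb
  exact ⟨m, (congr(($hs.symm).hom m)).trans ((congrArg s.hom hm).trans (map_smul s.hom.hom b z))⟩

theorem eSec_ker (N : ModuleCat.{u} A) : LinearMap.ker (eSec a N).hom ≤ DRing.torsionSub a N := by
  obtain ⟨s, hs⟩ := exists_secIso a N
  intro m hm
  have h0 : tilde.toOpen (R := CommRingCat.of A) N U m = 0 :=
    (ConcreteCategory.bijective_of_isIso s.hom).1 ((congr(($hs).hom m)).trans (hm.trans (map_zero _).symm))
  have h1 : m ∈ LinearMap.ker (tilde.toOpen (R := CommRingCat.of A) N U).hom := h0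
  rw [H1Punct.ker_toOpen (R := CommRingCat.of A) N a U rfl, H1Punct.mem_iSup_torsion] at h1
  exact h1

theorem exists_toDT (N : ModuleCat.{u} A) :
    ∃ ψ : (secF U).obj (PhiU a N) →ₗ[A] LocCoh.DT a N,
      Function.Injective ψ ∧ ∀ m, ψ (eSec a N m) = LocCoh.toDT a N m := by
  obtain ⟨ψ, hψ, -⟩ := S11600.result A a N ((secF U).obj (PhiU a N)) N (eSec a N).hom (eSec_ker a N)
    (fun q => by
      obtain ⟨x, rfl⟩ := Submodule.Quotient.mk_surjective _ q
      obtain ⟨n, hn⟩ := eSec_coker a N x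
      exact ⟨n, fun b hb => by
        rw [← Submodule.Quotient.mk_smul, Submodule.Quotient.mk_eq_zero]; exact hn b hb⟩) LinearMap.id
  have hψ' : ∀ m, ψ (eSec a N m) = LocCoh.toDT a N m := fun m => LinearMap.congr_fun hψ m
  refine ⟨ψ, (injective_iff_map_eq_zero _).2 fun x hx => ?_, hψ'⟩
  obtain ⟨n, hn⟩ := eSec_coker a N x
  obtain ⟨k, hk⟩ := H1Punct.exists_pow_torsion (R := CommRingCat.of A) a x fun g hg => by
    obtain ⟨m, hm⟩ := hn (g ^ n) (Ideal.pow_mem_pow hg n)
    have hm' : eSec a N m = g ^ n • x := hm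
    have h0 : LocCoh.toDT a N m = 0 := by rw [← hψ', hm', map_smul, hx, smul_zero]
    obtain ⟨l, hl⟩ := (S11590.result A a N).le (LinearMap.mem_ker.2 h0)
    refine ⟨l + n, ?_⟩
    rw [pow_add, mul_smul, ← hm', ← map_smul, hl _ (Ideal.pow_mem_pow hg l), map_zero]
  exact secF_torsionFree a N x hk

theorem finite_secF (N : ModuleCat.{u} A) [Module.Finite A N] (h1 : Module.Finite A (LocCoh.H a 1 N)) :
    Module.Finite A ((secF U).obj (PhiU a N)) := by
  obtain ⟨ψ, hψ, -⟩ := exists_toDT a N
  obtain ⟨e⟩ := LC.nonempty_cokerToDT a N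
  haveI := h1
  haveI : Module.Finite A (LocCoh.DT a N ⧸ LinearMap.range (LocCoh.toDT a N)) := Module.Finite.equiv e.symm
  haveI : Module.Finite A (LocCoh.DT a N) :=
    Module.Finite.of_submodule_quotient (LinearMap.range (LocCoh.toDT a N))
  exact Module.Finite.of_injective ψ hψ

instance additive_Φ : (H1Punct.Φ (A := A) U).Additive := inferInstance

/-- A quotient of a module that injects modulo a submodule into a finite module is finite. -/
theorem finite_of_mapQ {P Q D : Type*} [AddCommGroup P] [Module A P] [AddCommGroup Q] [Module A Q]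
    [AddCommGroup D] [Module A D] (d : P →ₗ[A] Q) (hd : Function.Surjective d) (K : Submodule A P)
    (hK : K ≤ LinearMap.ker d) (ψ : P →ₗ[A] D) (R : Submodule A D) (hfin : Module.Finite A (D ⧸ R))
    (hKR : K ≤ R.comap ψ) (hRK : R.comap ψ ≤ K) : Module.Finite A Q := by
  haveI : Module.Finite A (P ⧸ K) := by
    refine Module.Finite.of_injective (Submodule.mapQ K R ψ hKR) ((injective_iff_map_eq_zero _).2 fun q hq => ?_)
    obtain ⟨x, rfl⟩ := Submodule.Quotient.mk_surjective _ q
    rw [Submodule.mapQ_apply, Submodule.Quotient.mk_eq_zero] at hq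
    rw [Submodule.Quotient.mk_eq_zero]
    exact hRK hq
  refine Module.Finite.of_surjective (Submodule.liftQ K d hK) fun z => ?_
  obtain ⟨x, rfl⟩ := hd z
  exact ⟨Submodule.Quotient.mk x, rfl⟩

theorem range_eSec_le_ker_δ {S : ShortComplex (ModuleCat.{u} A)} (hS : S.ShortExact)
    (hT : (S.map (H1Punct.Φ U)).ShortExact) :
    LinearMap.range (eSec a S.X₃).hom ≤ LinearMap.ker (δ (LocCoh.puncturedOpen A a) hT) := by
  rintro _ ⟨q, rfl⟩
  obtain ⟨e, rfl⟩ := hS.moduleCat_surjective_g q
  have he : eSec a S.X₃ (S.g e) = (secF U).map ((H1Punct.Φ U).map S.g) (eSec a S.X₂ e) :=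
    (congr($(eSec_natural a S.g).hom e)).symm
  refine LinearMap.mem_ker.2 ((congrArg (δ (LocCoh.puncturedOpen A a) hT) he).trans ?_)
  obtain ⟨z, hz⟩ := (h0 (LocCoh.puncturedOpen A a) _).surjective (eSec a S.X₂ e)
  rw [← hz]
  refine (congrArg (δ (LocCoh.puncturedOpen A a) hT) (h0_map _ (S.map (H1Punct.Φ U)).g z).symm).trans ?_
  simp only [δ, LinearMap.comp_apply, LinearEquiv.coe_coe, LinearEquiv.symm_apply_apply]
  exact (QCoh.Ab.connecting_eq_zero_iff
    (X := ((U : (Spec (CommRingCat.of A)).Opens) : Scheme.{u}).toPresheafedSpace.carrier)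
    (QCoh.toAb_shortExact hT) 0 _).2 ⟨z, rfl⟩

theorem finite_localCohomology_one {S : ShortComplex (ModuleCat.{u} A)} (hS : S.ShortExact)
    [Injective S.X₂] (h2 : Module.Finite A ((localCohomology a 2).obj S.X₁)) :
    Module.Finite A ((localCohomology a 1).obj S.X₃) := by
  haveI := LC.subsingleton_of_injective a S.X₂ 0
  haveI := h2
  refine Module.Finite.of_injective (LC.δH a 1 hS 2 rfl) ((injective_iff_map_eq_zero _).2 fun z hz => ?_)
  obtain ⟨w, rfl⟩ := (LC.exact₃ a 1 hS 2 rfl z).1 hz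
  rw [Subsingleton.elim (α := (localCohomology a 1).obj S.X₂) w 0, map_zero]

theorem subsingleton_HH1_injective (M : ModuleCat.{u} A) [Injective M] :
    Subsingleton (Coh.HH ((U : (Spec (CommRingCat.of A)).Opens) : Scheme.{u}) (PhiU a M) 1) := by
  obtain ⟨e⟩ := S0356.result A a (M : Type u) 1 le_rfl
  haveI := LC.subsingleton_of_injective a M 1
  exact e.toEquiv.subsingleton

theorem finite_HH1_of_shortExact {S : ShortComplex (ModuleCat.{u} A)} (hS : S.ShortExact)
    (hT : (S.map (H1Punct.Φ U)).ShortExact) [Injective S.X₂] (h2 : Module.Finite A ((localCohomology a 2).obj S.X₁)) :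
    Module.Finite A (Coh.HH ((U : (Spec (CommRingCat.of A)).Opens) : Scheme.{u}) (PhiU a S.X₁) 1) := by
  have hδ : Function.Surjective (δ (LocCoh.puncturedOpen A a) hT) :=
    δ_surjective _ hT (subsingleton_HH1_injective a S.X₂)
  obtain ⟨ψ, hψ, hψe⟩ := exists_toDT a S.X₃
  obtain ⟨e₁⟩ := LC.nonempty_cokerToDT a S.X₃
  haveI := finite_localCohomology_one a hS h2
  have hfin : Module.Finite A (LocCoh.DT a S.X₃ ⧸ LinearMap.range (LocCoh.toDT a S.X₃)) :=
    Module.Finite.equiv e₁.symm
  have h3 := range_eSec_le_ker_δ a hS hT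
  have h4 := finite_of_mapQ (δ (LocCoh.puncturedOpen A a) hT) hδ _ h3 ψ
    (LinearMap.range (LocCoh.toDT a S.X₃)) hfin
  have h5 : LinearMap.range (eSec a S.X₃).hom ≤ (LinearMap.range (LocCoh.toDT a S.X₃)).comap ψ := by
    rintro _ ⟨q, rfl⟩
    exact ⟨q, (hψe q).symm⟩
  have h6 : (LinearMap.range (LocCoh.toDT a S.X₃)).comap ψ ≤ LinearMap.range (eSec a S.X₃).hom := by
    rintro x ⟨m, hm⟩
    exact ⟨m, hψ ((hψe m).trans hm)⟩
  exact h4 h5 h6

theorem finite_HH1 (N : ModuleCat.{u} A) (h2 : Module.Finite A (LocCoh.H a 2 N)) :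
    Module.Finite A (Coh.HH ((U : (Spec (CommRingCat.of A)).Opens) : Scheme.{u}) (PhiU a N) 1) := by
  let i := Injective.ι N
  let S : ShortComplex (ModuleCat.{u} A) := ShortComplex.mk i (cokernel.π i) (cokernel.condition _)
  have hS : S.ShortExact := { exact := ShortComplex.exact_cokernel i }
  haveI : PreservesFiniteLimits (tilde.functor (CommRingCat.of A)) :=
    QCoh.tilde_preservesFiniteLimits (R := CommRingCat.of A)
  haveI : PreservesFiniteColimits (tilde.functor (CommRingCat.of A)) :=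
    QCoh.tilde_preservesFiniteColimits (R := CommRingCat.of A)
  have hT : (S.map (H1Punct.Φ U)).ShortExact := hS.map_of_exact _
  haveI : Injective S.X₂ := inferInstanceAs (Injective (Injective.under N))
  have h2' : Module.Finite A ((localCohomology a 2).obj N) := h2
  have h3 := finite_HH1_of_shortExact a hS hT h2'
  exact h3

theorem exists_tilde_iso {R : CommRingCat.{u}} (Gx : (Spec R).Modules) (hG : Coh.IsQCoh Gx)
    (hft : CohB1.IsFT Gx) :
    ∃ N : ModuleCat.{u} R, Module.Finite R N ∧ Nonempty (tilde N ≅ Gx) := by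
  haveI : Gx.IsQuasicoherent := hG
  haveI : IsIso Gx.fromTildeΓ := (isQuasicoherent_iff_isIso_fromTildeΓ Gx).1 hG
  exact ⟨_, (QCoh.isFT_iff_finite Gx hG).1 hft, ⟨asIso Gx.fromTildeΓ⟩⟩

/-- Coherent modules on the open come from finite modules. -/
theorem exists_PhiU (F : ((U : (Spec (CommRingCat.of A)).Opens) : Scheme.{u}).Modules) (hF : Coh.IsCoh F) :
    ∃ (N : ModuleCat.{u} A) (_ : Module.Finite A N), Nonempty (PhiU a N ≅ F) := by
  let U₀ : (Spec (CommRingCat.of A)).Opens := U
  haveI : IsNoetherianRing (CommRingCat.of A) := inferInstanceAs (IsNoetherianRing A)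
  haveI : IsNoetherian (Spec (CommRingCat.of A)) := inferInstance
  haveI : QuasiCompact U₀.ι := inferInstance
  obtain ⟨Gx, hG, hGft, ⟨eG⟩⟩ := QCoh.exists_extension_abs
    (QCoh.extStep_qcqs (NoetherianSpace.isCompact (U₀ : Set (Spec (CommRingCat.of A))))) F hF.1 hF.2
  obtain ⟨N, hN, ⟨e⟩⟩ := exists_tilde_iso Gx hG hGft
  exact ⟨N, hN, ⟨(Scheme.Modules.restrictFunctor U₀.ι).mapIso e ≪≫ eG⟩⟩

end Groth.Agent.PunctAlg
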