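import Groth.Agent.PunctAlg.Kill
import Groth.Agent.LefLib.FinLocFree
import Groth.Agent.InvX.Tensor
import Groth.Agent.InvX.GenLocus
import Groth.Agent.RefX.Reflexive
import Groth.Agent.HomShX.Basic

/-!
# The structure module of a principal divisor on an open of an affine scheme
-/

set_option autoImplicit false
set_option linter.style.haveILetI false
set_option linter.unusedSectionVars false
set_option backward.isDefEq.respectTransparency false
set_option backward.isDefEq.respectTransparency.types false

universe u

open CategoryTheory CategoryTheory.Limits AlgebraicGeometry TopologicalSpace Opposite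

noncomputable section

namespace Groth.Agent.PunctAlg

open Groth.Agent

/-- A morphism out of the structure module on stalks. -/
theorem stalk_ofSect {X : Scheme.{u}} {M : X.Modules} (s : Γ(M, ⊤)) (x : X) (r : X.presheaf.stalk x) :
    (DerSch.stalkFunctor X x).map (InvX.ofSect s) (RefX.unitStalk x r) =
      r • (show (DerSch.stalkFunctor X x).obj M from M.presheaf.germ ⊤ x trivial s) := by
  refine (map_smul ((DerSch.stalkFunctor X x).map (InvX.ofSect s)).hom r _).trans ?_
  refine congrArg (fun z => r • z) ((DerSch.stalkFunctor_map_germ x (InvX.ofSect s) ⊤ trivial _).trans ?_)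
  exact congrArg (M.presheaf.germ ⊤ x trivial) (InvX.one_ofSect s)

/-- Membership in an ideal multiple of the structure module. -/
theorem unitStalk_mem_smul {X : Scheme.{u}} (x : X) (I : Ideal (X.presheaf.stalk x)) (r : X.presheaf.stalk x) :
    RefX.unitStalk x r ∈ I • (⊤ : Submodule (X.presheaf.stalk x) ((DerSch.stalkFunctor X x).obj (Coh.structureModule X))) ↔
      r ∈ I := by
  constructor
  · intro h
    have h2 : (RefX.unitStalk x).symm.toLinearMap (RefX.unitStalk x r) ∈
        Submodule.map (RefX.unitStalk x).symm.toLinearMap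
          (I • (⊤ : Submodule (X.presheaf.stalk x) ((Coh.structureModule X).presheaf.stalk x))) :=
      Submodule.mem_map_of_mem h
    rw [Submodule.map_smul'', LinearEquiv.coe_coe, LinearEquiv.symm_apply_apply, smul_eq_mul] at h2
    exact Ideal.mul_le_left h2
  · intro h
    rw [show RefX.unitStalk x r = r • RefX.unitStalk x 1 by rw [← map_smul, smul_eq_mul, mul_one]]
    exact Submodule.smul_mem_smul h Submodule.mem_top

variable {A : Type u} [CommRing A] (U : (Spec (CommRingCat.of A)).Opens) (t : A)

/-- The quotient module gives the structure module of the divisor. -/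
theorem nonempty_quot_iso :
    Nonempty (phi U (ModuleCat.of A (A ⧸ Ideal.span {t})) ≅ ClSub.quotMod (divOn U t)) := by
  let Q : ModuleCat.{u} A := ModuleCat.of A (A ⧸ Ideal.span {t})
  let e₁ : Q := Ideal.Quotient.mk (Ideal.span {t}) (1 : A)
  let s : Γ(phi U Q, ⊤) := tilde.toOpen (R := CommRingCat.of A) Q (U.ι ''ᵁ ⊤) e₁
  let b : Coh.structureModule U.toScheme ⟶ phi U Q := InvX.ofSect s
  have hb : ∀ (x : U.toScheme) (r : U.toScheme.presheaf.stalk x),
      (DerSch.stalkFunctor U.toScheme x).map b (RefX.unitStalk x r) = r • germM U Q x e₁ :=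
    fun x r => stalk_ofSect s x r
  have hmk : ∀ a : A, (show Q from Ideal.Quotient.mk (Ideal.span {t}) a) = a • e₁ := fun a => by
    show Ideal.Quotient.mk (Ideal.span {t}) a = a • Ideal.Quotient.mk (Ideal.span {t}) (1 : A)
    rw [Algebra.smul_def, Ideal.Quotient.algebraMap_eq, map_one, mul_one]
  haveI : Epi b := HomShX.epi_of_stalk _ fun x v => by
    obtain ⟨m, g, hg, hv⟩ := exists_germM U Q x v
    obtain ⟨a, rfl⟩ := Ideal.Quotient.mk_surjective m
    obtain ⟨w, hw⟩ := isUnit_germA U x g hg
    refine ⟨RefX.unitStalk x ((↑w⁻¹ : U.toScheme.presheaf.stalk x) * germA U x a), (hb x _).trans ?_⟩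
    rw [mul_smul, ← germM_smul, ← hmk a, ← hv, ← hw, smul_smul, Units.inv_mul, one_smul]
  haveI : Epi (ClSub.toSubscheme (divOn U t)) := CurvePoint.epi_toSubscheme _
  obtain ⟨κ, -⟩ := LefLib.exists_iso_under b (ClSub.toSubscheme (divOn U t)) fun x z => by
    obtain ⟨r, rfl⟩ := (RefX.unitStalk x).surjective z
    obtain ⟨W, hx⟩ := FormalAlg.exists_affine x
    have hst : (DerSch.stalkFunctor U.toScheme x).map (ClSub.toSubscheme (divOn U t)) (RefX.unitStalk x r) = 0 ↔
        r ∈ Ideal.span {germA U x t} := by
      have hS := (IntSym.shortExact_toSubscheme (divOn U t)).map_of_exact (DerSch.stalkFunctor U.toScheme x)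
      have hr := DepthTwist.range_idealModι (divOn U t) W hx
      rw [stI_divOn] at hr
      rw [← unitStalk_mem_smul, ← hr]
      exact ⟨fun h => (ShortComplex.moduleCat_exact_iff _).1 hS.exact _ h, fun ⟨w, hw⟩ => by
        rw [← hw, ← ConcreteCategory.comp_apply, ← Functor.map_comp,
          show ClSub.idealModι (divOn U t) ≫ ClSub.toSubscheme (divOn U t) = 0 from kernel.condition _, Functor.map_zero]
        rfl⟩
    rw [hb, hst]
    constructor
    · intro h
      obtain ⟨c, k, hk, hck⟩ := exists_germA_fraction U x r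
      have h0 : germM U Q x (c • e₁) = 0 := by rw [germM_smul, ← hck, mul_smul, h, smul_zero]
      obtain ⟨g, hg, hgc⟩ := (germM_eq_zero_iff U Q x _).1 h0
      rw [smul_smul, ← hmk] at hgc
      obtain ⟨d, hd⟩ := Ideal.mem_span_singleton'.1 (Ideal.Quotient.eq_zero_iff_mem.1 hgc)
      obtain ⟨w, hw⟩ := (isUnit_germA U x g hg).mul (isUnit_germA U x k hk)
      refine Ideal.mem_span_singleton'.2 ⟨(↑w⁻¹ : U.toScheme.presheaf.stalk x) * germA U x d, ?_⟩
      have h2 : germA U x d * germA U x t = germA U x g * germA U x k * r := by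
        rw [mul_assoc (germA U x g), hck]
        simp only [germA]
        rw [← map_mul, ← map_mul]
        refine congrArg _ ?_
        exact (map_mul _ d t).symm.trans ((congrArg _ hd).trans (map_mul _ g c))
      rw [mul_assoc, h2, ← hw, ← mul_assoc, Units.inv_mul, one_mul]
    · intro h
      obtain ⟨c, hc⟩ := Ideal.mem_span_singleton'.1 h
      rw [← hc, mul_smul, ← germM_smul, ← hmk, show (show Q from Ideal.Quotient.mk (Ideal.span {t}) t) = 0 from
        Ideal.Quotient.eq_zero_iff_mem.2 (Ideal.mem_span_singleton_self t)]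
      rw [(germM_eq_zero_iff U Q x 0).2 ⟨1, fun h => (U.ι x).2.ne_top ((Ideal.eq_top_iff_one _).2 h), smul_zero _⟩,
        smul_zero]
  exact ⟨κ⟩

end Groth.Agent.PunctAlg
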