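import Groth.Agent.PunctAlg.Alg
import Groth.Agent.PunctAlg.Kill
import Groth.Agent.PunctAlg.QuotIso
import Groth.Agent.LefLib.Algebraize

/-!
# Invertible modules on a principal divisor extend to a neighbourhood
-/

set_option autoImplicit false
set_option linter.style.haveILetI false
set_option linter.unusedSectionVars false
set_option backward.isDefEq.respectTransparency false
set_option backward.isDefEq.respectTransparency.types false

universe u

open CategoryTheory CategoryTheory.Limits AlgebraicGeometry TopologicalSpace Opposite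
open Groth.Agent.H23.PicMul

noncomputable section

namespace Groth.Agent.PunctAlg

open Groth.Agent

variable {A : Type u} [CommRing A]

/-- The ideal module of the divisor is trivial. -/
theorem cl_idealMod_divOn (U : (Spec (CommRingCat.of A)).Opens) (t : A) (hreg : IsSMulRegular A t) :
    PicF.cl (ClSub.idealMod (divOn U t)) = 1 := by
  let J := divOn U t
  let O := Coh.structureModule U.toScheme
  let m : O ⟶ O := Formal.smulMod A O t
  have hIS := IntSym.shortExact_toSubscheme J
  have hexact : ∀ x : U.toScheme, ∀ v, (DerSch.stalkFunctor U.toScheme x).map (ClSub.idealModι J) v ∈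
      DepthTwist.stI J (FormalAlg.exists_affine x).choose (FormalAlg.exists_affine x).choose_spec •
        (⊤ : Submodule (U.toScheme.presheaf.stalk x) ((DerSch.stalkFunctor U.toScheme x).obj O)) := fun x v => by
    rw [← DepthTwist.range_idealModι]; exact ⟨v, rfl⟩
  have h0 : m ≫ ClSub.toSubscheme J = 0 := by
    refine HomShX.ext_stalk fun x => LinearMap.ext fun v => ?_
    rw [HomShX.stalkMapₗ_zero]
    show (DerSch.stalkFunctor U.toScheme x).map (m ≫ ClSub.toSubscheme J) v = 0
    rw [Functor.map_comp, ConcreteCategory.comp_apply, stalk_smulMod]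
    obtain ⟨W, hx⟩ := FormalAlg.exists_affine x
    have hmem : germA U x t • v ∈ LinearMap.range ((DerSch.stalkFunctor U.toScheme x).map (ClSub.idealModι J)).hom := by
      rw [DepthTwist.range_idealModι J W hx, stI_divOn]
      exact Submodule.smul_mem_smul (Ideal.mem_span_singleton_self _) Submodule.mem_top
    obtain ⟨w, hw⟩ := hmem
    rw [← hw, ← ConcreteCategory.comp_apply, ← Functor.map_comp,
      show ClSub.idealModι J ≫ ClSub.toSubscheme J = 0 from kernel.condition _, Functor.map_zero]
    rfl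
  let s : O ⟶ ClSub.idealMod J := kernel.lift (ClSub.toSubscheme J) m h0
  have hs : s ≫ ClSub.idealModι J = m := kernel.lift_ι _ _ _
  have key : ∀ x v, (DerSch.stalkFunctor U.toScheme x).map (ClSub.idealModι J)
      ((DerSch.stalkFunctor U.toScheme x).map s v) = germA U x t • v := fun x v => by
    rw [← ConcreteCategory.comp_apply, ← Functor.map_comp, hs]
    exact stalk_smulMod U O t x v
  haveI : Mono ((𝟙 (ClSub.idealMod J)) ≫ ClSub.idealModι J) := by
    rw [Category.id_comp]; exact hIS.mono_f
  have hι : ∀ x : U.toScheme, Function.Injective ((DerSch.stalkFunctor U.toScheme x).map (ClSub.idealModι J)) :=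
    fun x => by
      haveI := hIS.mono_f
      exact (ModuleCat.mono_iff_injective _).1
        (inferInstanceAs (Mono ((DerSch.stalkFunctor U.toScheme x).map (ShortComplex.mk (ClSub.idealModι J)
          (ClSub.toSubscheme J) (kernel.condition _)).f)))
  haveI : Epi s := HomShX.epi_of_stalk _ fun x v => by
    obtain ⟨W, hx⟩ := FormalAlg.exists_affine x
    have hmem : (DerSch.stalkFunctor U.toScheme x).map (ClSub.idealModι J) v ∈
        LinearMap.range ((DerSch.stalkFunctor U.toScheme x).map (ClSub.idealModι J)).hom := ⟨v, rfl⟩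
    rw [DepthTwist.range_idealModι J W hx] at hmem
    obtain ⟨w, hw⟩ := (FormalAlg.mem_pow_smul_top (stI_divOn U t W hx) 1 _).1 (by rw [pow_one]; exact hmem)
    exact ⟨w, hι x ((key x w).trans (by rw [← hw, pow_one]))⟩
  haveI : Mono s := HomShX.mono_of_stalk _ fun x => (injective_iff_map_eq_zero _).2 fun v hv => by
    obtain ⟨W, hx⟩ := FormalAlg.exists_affine x
    obtain ⟨t', g, ht', hnz, -, -⟩ := FormalAlg.exists_gen J (isInvertible_divOn U t hreg) W hx
    have h1 : germA U x t • v = 0 := by
      rw [← key x v]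
      exact (congrArg _ hv).trans (map_zero _)
    obtain ⟨r, rfl⟩ := (RefX.unitStalk x).surjective v
    rw [← map_smul, map_eq_zero_iff _ (RefX.unitStalk x).injective, smul_eq_mul] at h1
    rw [stI_divOn] at ht'
    have hmem : t' ∈ Ideal.span {germA U x t} := ht' ▸ Ideal.mem_span_singleton_self t'
    obtain ⟨c, hc⟩ := Ideal.mem_span_singleton'.1 hmem
    rw [hnz r (by rw [← hc]; linear_combination c * h1), map_zero]
  haveI : IsIso s := isIso_of_mono_of_epi s
  rw [H23.PicMul.one_def]
  exact cl_eq_iff.2 ⟨(asIso s).symm⟩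

variable [IsNoetherianRing A] (a : Ideal A) (t : A)

/-- The open complementary to `V(a)`. -/
abbrev pU (a : Ideal A) : (Spec (CommRingCat.of A)).Opens := LocCoh.puncturedOpen A a

local notation "U" => pU a

theorem subsingleton_H2_kernel (hreg : IsSMulRegular A t)
    (h3 : Subsingleton (LocCoh.H a 3 (A ⧸ Ideal.span {t}))) [IsNoetherian (Spec (CommRingCat.of A))] (m : ℕ) :
    Subsingleton (Coh.HH (U).toScheme (kernel (Lef.quotMap (Lef.pow_succ_le (divOn U t) m))) 2) := by
  haveI : IsLocallyNoetherian (U).toScheme := inferInstance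
  obtain ⟨e⟩ := nonempty_quot_iso U t
  have h := FormalAlg.cl_kernel_quotMap (divOn U t) (isInvertible_divOn U t hreg) m
  rw [cl_idealMod_divOn U t hreg, one_pow, mul_one] at h
  obtain ⟨κ⟩ := cl_eq_iff.1 h
  obtain ⟨eh⟩ := S0356.result A a (A ⧸ Ideal.span {t}) 2 one_le_two
  have h2 : Subsingleton (Coh.HH (U).toScheme (phi U (ModuleCat.of A (A ⧸ Ideal.span {t}))) 2) :=
    eh.toEquiv.subsingleton
  exact QCoh.subsingleton_HH_of_iso (e ≪≫ κ.symm) 2 h2

/-- Invertible modules on the divisor come from invertible modules near it. -/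
theorem exists_extension [IsNoetherian (Spec (CommRingCat.of A))] [IsAdicComplete (Ideal.span {t}) A]
    (hreg : IsSMulRegular A t)
    (h1 : Module.Finite A (LocCoh.H a 1 (A ⧸ Ideal.span {t})))
    (h2 : Module.Finite A (LocCoh.H a 2 (A ⧸ Ideal.span {t})))
    (h3 : Subsingleton (LocCoh.H a 3 (A ⧸ Ideal.span {t})))
    (N : ((divOn U t) ^ (0 + 1)).subscheme.Modules) (hN : PicF.IsInvertible N) :
    ∃ (F : (U).toScheme.Modules) (V : (U).toScheme.Opens), ((divOn U t).support : Set (U).toScheme) ⊆ V ∧
      Coh.IsCoh F ∧ PicF.IsInvertible (F.restrict V.ι) ∧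
        Nonempty ((Scheme.Modules.pullback (divOn U t ^ (0 + 1)).subschemeι).obj F ≅ N) := by
  haveI : IsLocallyNoetherian (U).toScheme := inferInstance
  obtain ⟨𝔐, hinv, hcl⟩ := LefLib.exists_system (divOn U t) 0
    (fun m _ => subsingleton_H2_kernel a t hreg h3 m) 0 le_rfl N hN
  let i := ((divOn U t) ^ (0 + 1)).subschemeι
  let G₀ := (Scheme.Modules.pushforward i).obj (𝔐.F 0)
  haveI : IsLocallyNoetherian ((divOn U t) ^ (0 + 1)).subscheme :=
    LocallyOfFiniteType.isLocallyNoetherian i
  have hG₀ : Coh.IsCoh G₀ := QCoh.isCoh_pushforward_finite _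
    (CurveDeg.isCoh_of_isFinLocFree (X := ((divOn U t) ^ (0 + 1)).subscheme)
      (H23.PullPush.isFinLocFree_of_isInvertible (hinv 0)))
  obtain ⟨M, hM, ⟨eM⟩⟩ := exists_PhiU a G₀ hG₀
  haveI := hM
  have hQ : ∀ i ≤ 2, Module.Finite A ((localCohomology a i).obj (ModuleCat.of A (A ⧸ Ideal.span {t}))) := by
    intro i hi
    interval_cases i
    · exact LC.finite_H0 a _
    · exact h1
    · exact h2
  have hfin := finite_H_of_factors a 2 _ hQ M fun p hp hap => by
    obtain ⟨g, hg, φ, s, hs⟩ := exists_factor_push U t (𝔐.F 0) (hinv 0) M eM ⟨⟨p, hp⟩, fun h => hap h⟩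
    exact ⟨g, hg, φ, s, hs⟩
  haveI := finite_secF a M (hfin 1 one_le_two)
  haveI := finite_HH1 a M (hfin 2 le_rfl)
  have hs0 : Module.Finite A ((secF (U)).obj G₀) :=
    Module.Finite.equiv ((secF (U)).mapIso eM).toLinearEquiv
  have hs1 : Module.Finite A (Coh.HH (U).toScheme G₀ 1) := by
    refine Module.Finite.of_surjective (PnCoh.Finite.mapLin A eM.hom 1) fun z => ⟨PnCoh.Finite.mapLin A eM.inv 1 z, ?_⟩
    show Sheaf.H.map _ 1 (Sheaf.H.map _ 1 z) = z
    refine (Formal.HHmap_comp eM.inv eM.hom 1 z).trans ?_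
    rw [eM.inv_hom_id, CategoryTheory.Functor.map_id]
    exact Sheaf.H.map_id_apply _
  obtain ⟨F, hF, ⟨φ⟩⟩ := exists_completion_iso U t hreg 𝔐
    (fun n => H23.PullPush.isFinLocFree_of_isInvertible (hinv n)) hs0 hs1
  obtain ⟨V, hV, hFV⟩ := FormalAlg.exists_open_invertible (divOn U t) hF 𝔐 hinv ⟨φ⟩
  refine ⟨F, V, hV, hF, hFV, cl_eq_iff.1 ?_⟩
  rw [← hcl]
  exact cl_eq_iff.2 ⟨⟨φ.hom.app 0, φ.inv.app 0, congrArg (fun f => FSch.ModSys.Hom.app f 0) φ.hom_inv_id,
    congrArg (fun f => FSch.ModSys.Hom.app f 0) φ.inv_hom_id⟩⟩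

end Groth.Agent.PunctAlg
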