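import Groth.Agent.PunctAlg.Sections
import Groth.Agent.PunctAlg.PicSurj
import Groth.Prelude.Def_Formal2

/-!
# Extension of an invertible module across closed points with trivial local Picard group
-/

set_option autoImplicit false
set_option linter.style.haveILetI false
set_option linter.unusedSectionVars false
set_option backward.isDefEq.respectTransparency false
set_option backward.isDefEq.respectTransparency.types false

universe u

open CategoryTheory CategoryTheory.Limits AlgebraicGeometry TopologicalSpace Opposite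

noncomputable section

namespace Groth.Agent.PunctAlg

open Groth.Agent

theorem puncturedSpec_eq_pU (R : Type u) [CommRing R] [IsLocalRing R] :
    FEt.puncturedSpec R = (pU (IsLocalRing.maximalIdeal R) : (Spec (CommRingCat.of R)).Opens) := by
  ext x
  show x ∈ ({IsLocalRing.closedPoint R}ᶜ : Set (PrimeSpectrum R)) ↔
    x ∈ (PrimeSpectrum.zeroLocus (R := R) (IsLocalRing.maximalIdeal R : Set R))ᶜ
  refine not_congr ?_
  rw [Set.mem_singleton_iff, PrimeSpectrum.mem_zeroLocus, SetLike.coe_subset_coe]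
  exact ⟨fun h => h ▸ le_rfl, fun h => PrimeSpectrum.ext
    ((IsLocalRing.maximalIdeal.isMaximal R).eq_of_le x.2.ne_top h).symm⟩

/-- A rank one module on the punctured spectrum with trivial Picard group has a map from a power of the maximal ideal. -/
theorem exists_hom_pow_local (R : Type u) [CommRing R] [IsLocalRing R] [IsNoetherianRing R]
    (hpic : Formal2.PicTrivial (↑(FEt.puncturedSpec R) : Scheme.{u}))
    (M : Type u) [AddCommGroup M] [Module R M] [Module.Finite R M]
    (hM : ∀ x : Ideal R, x.IsPrime → x ≠ IsLocalRing.maximalIdeal R → Rk1 M x) :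
    ∃ (k : ℕ) (f : (IsLocalRing.maximalIdeal R ^ k : Ideal R) →ₗ[R] M), Function.Injective f ∧
      ∀ p : Ideal R, p.IsPrime → p ≠ IsLocalRing.maximalIdeal R → ∀ y : M, ∃ s ∉ p, s • y ∈ LinearMap.range f := by
  rw [puncturedSpec_eq_pU] at hpic
  let m := IsLocalRing.maximalIdeal R
  have hne : ∀ x : (pU m : (Spec (CommRingCat.of R)).Opens).toScheme, ((pU m).ι x).asIdeal ≠ m := fun x h =>
    x.2 (show (m : Set R) ⊆ ((pU m).ι x).asIdeal by rw [h])
  obtain ⟨ψ⟩ := hpic _ (isInvertible_of_rk1 (pU m) (ModuleCat.of R M) fun x => hM _ ((pU m).ι x).2 (hne x))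
  let S₀ : Γ(phi (pU m) (ModuleCat.of R M), ⊤) := InvX.one ψ.inv
  let S : (secF (pU m)).obj (PhiU m (ModuleCat.of R M)) := S₀
  have hs : ∀ x r, (DerSch.stalkFunctor (pU m).toScheme x).map ψ.inv (RefX.unitStalk x r) =
      r • secGerm (pU m) (PhiU m (ModuleCat.of R M)) x S := fun x r => by
    refine (map_smul ((DerSch.stalkFunctor (pU m).toScheme x).map ψ.inv).hom r _).trans ?_
    exact congrArg (fun z => r • z) (DerSch.stalkFunctor_map_germ x ψ.inv ⊤ trivial _)
  obtain ⟨k, f, hf, hsurj⟩ := exists_hom_pow m (ModuleCat.of R M) S (fun x v => by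
      obtain ⟨w, hw⟩ := (ConcreteCategory.bijective_of_isIso ((DerSch.stalkFunctor (pU m).toScheme x).map ψ.inv)).2 v
      obtain ⟨r, rfl⟩ := (RefX.unitStalk x).surjective w
      exact ⟨r, (hs x r).symm.trans hw⟩)
    (fun x r hr => by
      have h0 := (ConcreteCategory.bijective_of_isIso ((DerSch.stalkFunctor (pU m).toScheme x).map ψ.inv)).1
        (a₁ := RefX.unitStalk x r) (a₂ := 0) ((hs x r).trans (hr.trans (map_zero _).symm))
      exact (RefX.unitStalk x).injective (h0.trans (map_zero _).symm))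
  exact ⟨k, f, hf, fun p hp hpm => hsurj p hp fun h =>
    hpm ((IsLocalRing.maximalIdeal.isMaximal R).eq_of_le hp.ne_top h).symm⟩

variable {A : Type u} [CommRing A] [IsNoetherianRing A]

/-- Rank one passes to the localisation. -/
theorem rk1_localized {M : Type u} [AddCommGroup M] [Module A M] (q : Ideal A) [q.IsPrime]
    (x : Ideal (Localization.AtPrime q)) [hx : x.IsPrime]
    (h : Rk1 M (x.comap (algebraMap A (Localization.AtPrime q)))) :
    Rk1 (LocalizedModule q.primeCompl M) x := by
  obtain ⟨e, he, ha⟩ := h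
  refine ⟨LocalizedModule.mkLinearMap q.primeCompl M e, fun y => ?_, fun a hae => ?_⟩
  · induction y using LocalizedModule.induction_on with
    | h m u =>
      obtain ⟨s, hs, b, hsb⟩ := he m
      refine ⟨algebraMap A _ (s * u.1), fun hm => ?_, algebraMap A _ b, ?_⟩
      · rw [map_mul] at hm
        rcases hx.mem_or_mem hm with h | h
        · exact hs h
        · exact hx.ne_top (Ideal.eq_top_of_isUnit_mem _ h (IsLocalization.map_units _ u))
      · rw [algebraMap_smul, algebraMap_smul, mul_smul, LocalizedModule.smul'_mk (u : A), ← Submonoid.smul_def,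
          LocalizedModule.mk_cancel, LocalizedModule.smul'_mk, hsb, ← map_smul, LocalizedModule.mkLinearMap_apply]
  · obtain ⟨b, u, rfl⟩ := IsLocalization.exists_mk'_eq q.primeCompl a
    have h1 : (b • LocalizedModule.mkLinearMap q.primeCompl M e) = 0 := by
      rw [← algebraMap_smul (Localization.AtPrime q) b, ← IsLocalization.mk'_spec _ b u, mul_comm, mul_smul, hae, smul_zero]
    rw [← map_smul] at h1
    obtain ⟨⟨w, hw⟩, hwb⟩ := (IsLocalizedModule.eq_zero_iff q.primeCompl (LocalizedModule.mkLinearMap q.primeCompl M)).1 h1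
    have hwb' : (w * b) • e = 0 := by rw [mul_smul]; exact hwb
    obtain ⟨s, hs, hs0⟩ := ha _ hwb'
    refine ⟨algebraMap A _ (s * w), fun hm => ?_, ?_⟩
    · rw [map_mul] at hm
      rcases hx.mem_or_mem hm with h | h
      · exact hs h
      · exact hx.ne_top (Ideal.eq_top_of_isUnit_mem _ h (IsLocalization.map_units _ (⟨w, hw⟩ : q.primeCompl)))
    · rw [IsLocalization.mul_mk'_eq_mk'_of_mul, mul_assoc, hs0, IsLocalization.mk'_zero]

/-- Trivial local Picard group gives a map from a power of the prime bijective below it. -/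
theorem exists_hom_below {M : Type u} [AddCommGroup M] [Module A M] [Module.Finite A M] (q : Ideal A) [hq : q.IsPrime]
    (hpic : Formal2.PicTrivial (↑(FEt.puncturedSpec (Localization.AtPrime q)) : Scheme.{u}))
    (hM : ∀ x : Ideal A, x.IsPrime → x ≤ q → x ≠ q → Rk1 M x) :
    ∃ (k : ℕ) (F : (q ^ k : Ideal A) →ₗ[A] M), (∀ a : (q ^ k : Ideal A), F a = 0 → ∃ s ∉ q, s * (a : A) = 0) ∧
      ∀ x : Ideal A, x.IsPrime → x ≤ q → x ≠ q → ∀ y : M, ∃ s ∉ x, s • y ∈ LinearMap.range F := by
  let S := Localization.AtPrime q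
  let MS := LocalizedModule q.primeCompl M
  haveI : IsNoetherianRing S := IsLocalization.isNoetherianRing q.primeCompl S inferInstance
  haveI : Module.Finite S MS := Module.Finite.of_isLocalizedModule q.primeCompl (LocalizedModule.mkLinearMap q.primeCompl M)
  have hmax : ∀ P : Ideal S, P.IsPrime → P ≠ IsLocalRing.maximalIdeal S → P.comap (algebraMap A S) ≠ q :=
    fun P hP hne h => hne (by
      rw [← IsLocalization.map_under q.primeCompl S P, show P.under A = q from h,
        ← Localization.AtPrime.map_eq_maximalIdeal])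
  obtain ⟨k, f, hf, hsurj⟩ := exists_hom_pow_local S hpic MS fun P hP hne =>
    rk1_localized q P (hM _ (hP.comap _) (IsLocalization.AtPrime.orderIsoOfPrime S q ⟨P, hP⟩).2.2 (hmax P hP hne))
  have hpow : ∀ a : (q ^ k : Ideal A), algebraMap A S a.1 ∈ IsLocalRing.maximalIdeal S ^ k := fun a => by
    rw [← Localization.AtPrime.map_eq_maximalIdeal, ← Ideal.map_pow]
    exact Ideal.mem_map_of_mem _ a.2
  let f₀ : (q ^ k : Ideal A) →ₗ[A] MS :=
    { toFun := fun a => f ⟨algebraMap A S a.1, hpow a⟩
      map_add' := fun a b => by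
        rw [← map_add]; exact congrArg f (Subtype.ext (map_add _ _ _))
      map_smul' := fun r a => by
        refine Eq.trans (congrArg f (Subtype.ext (?_ : algebraMap A S (r * a.1) = algebraMap A S r * algebraMap A S a.1))
          : _ = f (algebraMap A S r • ⟨algebraMap A S a.1, hpow a⟩)) ?_
        · exact map_mul _ _ _
        · exact (map_smul f (algebraMap A S r) _).trans (algebraMap_smul S r _) }
  haveI : Module.FinitePresentation A (q ^ k : Ideal A) := Module.finitePresentation_of_finite A _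
  obtain ⟨F, ⟨h, hh⟩, hF⟩ := Module.FinitePresentation.exists_lift_of_isLocalizedModule q.primeCompl
    (LocalizedModule.mkLinearMap q.primeCompl M) f₀
  have hF' : ∀ a, LocalizedModule.mkLinearMap q.primeCompl M (F a) = h • f₀ a := fun a => LinearMap.congr_fun hF a
  refine ⟨k, F, fun a ha => ?_, fun x hx hxq hxne y => ?_⟩
  · have h0 : f ⟨algebraMap A S a.1, hpow a⟩ = 0 := by
      have h1 : algebraMap A S h • f ⟨algebraMap A S a.1, hpow a⟩ = 0 := by
        rw [algebraMap_smul]; exact (hF' a).symm.trans (by rw [ha, map_zero])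
      exact (IsLocalization.map_units S (⟨h, hh⟩ : q.primeCompl)).smul_eq_zero.1 h1
    have h2 : algebraMap A S a.1 = 0 := congrArg Subtype.val (hf (h0.trans (map_zero f).symm))
    obtain ⟨⟨s, hs⟩, hs0⟩ := (IsLocalization.map_eq_zero_iff q.primeCompl S a.1).1 h2
    exact ⟨s, hs, hs0⟩
  · have hdisj : Disjoint (q.primeCompl : Set A) x := Set.disjoint_left.2 fun z hz hzx => hz (hxq hzx)
    have hP := IsLocalization.isPrime_of_isPrime_disjoint q.primeCompl S x hx hdisj
    have hcomap := IsLocalization.comap_map_of_isPrime_disjoint q.primeCompl S hx hdisj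
    have hne : x.map (algebraMap A S) ≠ IsLocalRing.maximalIdeal S := fun h => hxne (by
      rw [← hcomap, h]; exact IsLocalization.AtPrime.comap_maximalIdeal S q)
    obtain ⟨r, hr, ⟨c, hc⟩, hy⟩ := hsurj _ hP hne (LocalizedModule.mkLinearMap q.primeCompl M y)
    obtain ⟨b, u, rfl⟩ := IsLocalization.exists_mk'_eq q.primeCompl r
    have hb : b ∉ x := fun hb => hr ((IsLocalization.mk'_mem_iff (S := S)).2 (Ideal.mem_map_of_mem _ hb))
    rw [← Localization.AtPrime.map_eq_maximalIdeal, ← Ideal.map_pow,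
      IsLocalization.mem_map_algebraMap_iff q.primeCompl S] at hc
    obtain ⟨⟨⟨a, ha⟩, v⟩, hav⟩ := hc
    have h1 : LocalizedModule.mkLinearMap q.primeCompl M ((h * v.1 * b) • y) =
        LocalizedModule.mkLinearMap q.primeCompl M ((u.1 : A) • F ⟨a, ha⟩) := by
      have e1 : f ⟨algebraMap A S a, hpow ⟨a, ha⟩⟩ =
          algebraMap A S v.1 • (IsLocalization.mk' S b u • LocalizedModule.mkLinearMap q.primeCompl M y) := by
        rw [← hy, ← map_smul]
        exact congrArg f (Subtype.ext (hav.symm.trans (mul_comm _ _)))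
      rw [map_smul, map_smul, hF']
      show (h * v.1 * b) • LocalizedModule.mkLinearMap q.primeCompl M y =
        (u.1 : A) • (h • f ⟨algebraMap A S a, hpow ⟨a, ha⟩⟩)
      rw [e1, ← algebraMap_smul S (u.1 : A), ← algebraMap_smul S h, ← algebraMap_smul S (h * v.1 * b),
        smul_smul, smul_smul, smul_smul, map_mul, map_mul]
      congr 1
      rw [← IsLocalization.mk'_spec S b u]
      ring
    obtain ⟨⟨w, hw⟩, hwy⟩ := (IsLocalizedModule.eq_iff_exists q.primeCompl _).1 h1
    refine ⟨w * (h * v.1 * b), fun hm => ?_, (w * u.1) • ⟨a, ha⟩, ?_⟩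
    · rcases hx.mem_or_mem hm with h' | h'
      · exact hw (hxq h')
      rcases hx.mem_or_mem h' with h' | h'
      · exact (hx.mem_or_mem h').elim (fun h'' => hh (hxq h'')) fun h'' => v.2 (hxq h'')
      · exact hb h'
    · rw [map_smul, mul_smul, mul_smul]
      exact hwy.symm

/-- Extending across finitely many incomparable primes with trivial local Picard group. -/
theorem exists_rk1_extension (W : (Spec (CommRingCat.of A)).Opens) (Z : Finset (PrimeSpectrum A))
    (hZ : ∀ q ∈ Z, ∀ x : PrimeSpectrum A, q.asIdeal ≤ x.asIdeal → (x : Spec (CommRingCat.of A)) ∉ W)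
    (hanti : ∀ q ∈ Z, ∀ q' ∈ Z, q.asIdeal ≤ q'.asIdeal → q = q')
    (hbelow : ∀ q ∈ Z, ∀ x : PrimeSpectrum A, x.asIdeal ≤ q.asIdeal → x ≠ q → (x : Spec (CommRingCat.of A)) ∈ W)
    (hpic : ∀ q ∈ Z, Formal2.PicTrivial (↑(FEt.puncturedSpec (Localization.AtPrime q.asIdeal)) : Scheme.{u}))
    (N : ModuleCat.{u} A) [Module.Finite A N] (hN : PicF.IsInvertible (phi W N)) :
    ∃ (P : ModuleCat.{u} A) (_ : Module.Finite A P), Nonempty (phi W P ≅ phi W N) ∧
      (∀ x : W.toScheme, Rk1 P (W.ι x).asIdeal) ∧ ∀ q ∈ Z, Rk1 P q.asIdeal := by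
  classical
  induction Z using Finset.induction_on with
  | empty => exact ⟨N, inferInstance, ⟨Iso.refl _⟩, fun x => rk1_of_isInvertible W N hN x, fun q hq => absurd hq (Finset.notMem_empty q)⟩
  | @insert q Z hq ih =>
    obtain ⟨P, hP, ⟨e⟩, hPW, hPZ⟩ := ih (fun r hr => hZ r (Finset.mem_insert_of_mem hr))
      (fun r hr r' hr' => hanti r (Finset.mem_insert_of_mem hr) r' (Finset.mem_insert_of_mem hr'))
      (fun r hr => hbelow r (Finset.mem_insert_of_mem hr)) (fun r hr => hpic r (Finset.mem_insert_of_mem hr))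
    haveI := hP
    have hq' := Finset.mem_insert_self q Z
    obtain ⟨k, F, hinj, hsurj⟩ := exists_hom_below (M := P) q.asIdeal (hpic q hq') fun x hx hxq hne => by
      have hmem := hbelow q hq' ⟨x, hx⟩ hxq fun h => hne (congrArg PrimeSpectrum.asIdeal h)
      exact hPW ⟨⟨x, hx⟩, hmem⟩
    obtain ⟨Q, P', _, _, _, _, _, _, f, g, hfg, hPq⟩ := exists_extend_at q.asIdeal k F hinj hsurj
    have hoff : ∀ x : W.toScheme, ¬ q.asIdeal ≤ (W.ι x).asIdeal := fun x h => hZ q hq' (W.ι x) h x.2
    have hkeep : ∀ x : Ideal A, x.IsPrime → ¬ q.asIdeal ≤ x → Rk1 P x → Rk1 P' x := fun x hx h hr => by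
      haveI := hx
      exact rk1_of_bijAt' g (hfg x hx h).2 (rk1_of_bijAt f (hfg x hx h).1 hr)
    let f' : P ⟶ ModuleCat.of A Q := ModuleCat.ofHom f
    let g' : ModuleCat.of A P' ⟶ ModuleCat.of A Q := ModuleCat.ofHom g
    haveI : IsIso ((H1Punct.Φ W).map f') := isIso_phi_map W f' fun x => (hfg _ (W.ι x).2 (hoff x)).1
    haveI : IsIso ((H1Punct.Φ W).map g') := isIso_phi_map W g' fun x => (hfg _ (W.ι x).2 (hoff x)).2
    refine ⟨ModuleCat.of A P', inferInstanceAs (Module.Finite A P'),
      ⟨asIso ((H1Punct.Φ W).map g') ≪≫ (asIso ((H1Punct.Φ W).map f')).symm ≪≫ e⟩,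
      fun x => hkeep _ (W.ι x).2 (hoff x) (hPW x), fun r hr => ?_⟩
    rcases Finset.mem_insert.1 hr with rfl | hr'
    · exact hPq
    · exact hkeep _ r.2 (fun h => hq ((hanti q hq' r hr h) ▸ hr')) (hPZ r hr')

end Groth.Agent.PunctAlg
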