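import Groth.Agent.PunctAlg.Sections
import Groth.Agent.PunctAlg.Finite
import Groth.Agent.PunctAlg.PicExtend
import Groth.Agent.LefLib.PicThick
import Groth.Agent.LefLib.FEtFF

/-!
# The Lefschetz condition for the structure sheaf of an open of an affine scheme
-/

set_option autoImplicit false
set_option linter.style.haveILetI false
set_option linter.unusedSectionVars false
set_option backward.isDefEq.respectTransparency false
set_option backward.isDefEq.respectTransparency.types false

universe u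

open CategoryTheory CategoryTheory.Limits AlgebraicGeometry TopologicalSpace Opposite

noncomputable section

namespace Groth.Agent.PunctAlg

open Groth.Agent

variable {A : Type u} [CommRing A]

/-- The ideal sheaf of an ideal on an open. -/
abbrev idOn (U : (Spec (CommRingCat.of A)).Opens) (I : Ideal A) : (U : Scheme.{u}).IdealSheafData :=
  (Spec.map (CommRingCat.ofHom (Ideal.Quotient.mk I))).ker.comap U.ι

/-- Germs of elements, as a ring map. -/
abbrev germHom (U : (Spec (CommRingCat.of A)).Opens) (x : U.toScheme) : A →+* U.toScheme.presheaf.stalk x :=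
  (U.toScheme.presheaf.germ ⊤ x trivial).hom.comp (Coh.toGlobal (U.toScheme ↘ Spec (CommRingCat.of A)))

theorem germHom_apply (U : (Spec (CommRingCat.of A)).Opens) (x : U.toScheme) (a : A) :
    germHom U x a = germA U x a := rfl

theorem ker_ideal_top (I : Ideal A) :
    (Spec.map (CommRingCat.ofHom (Ideal.Quotient.mk I))).ker.ideal ⟨⊤, isAffineOpen_top _⟩ =
      I.map (Scheme.ΓSpecIso (CommRingCat.of A)).inv.hom := by
  let φ := CommRingCat.ofHom (Ideal.Quotient.mk I)
  rw [Scheme.Hom.ker_apply]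
  have h : (Spec.map φ).app ⊤ = (Scheme.ΓSpecIso (CommRingCat.of A)).hom ≫ φ ≫
      (Scheme.ΓSpecIso (CommRingCat.of (A ⧸ I))).inv := by
    rw [Scheme.ΓSpecIso_inv_naturality, Iso.hom_inv_id_assoc]
  change RingHom.ker ((Spec.map φ).app ⊤).hom = _
  rw [h]
  have hinv := ConcreteCategory.bijective_of_isIso (Scheme.ΓSpecIso (CommRingCat.of A)).inv
  ext z
  obtain ⟨a, rfl⟩ := hinv.2 z
  rw [RingHom.mem_ker, Ideal.mem_map_iff_of_surjective _ hinv.2]
  simp only [CommRingCat.hom_comp, RingHom.comp_apply, φ, CommRingCat.hom_ofHom]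
  rw [show (Scheme.ΓSpecIso (CommRingCat.of A)).hom ((Scheme.ΓSpecIso (CommRingCat.of A)).inv a) = a from
    congr($((Scheme.ΓSpecIso (CommRingCat.of A)).inv_hom_id) a)]
  constructor
  · intro ha
    exact ⟨a, Ideal.Quotient.eq_zero_iff_mem.1
      ((ConcreteCategory.bijective_of_isIso (Scheme.ΓSpecIso (CommRingCat.of (A ⧸ I))).inv).1
        (ha.trans (map_zero _).symm)), rfl⟩
  · rintro ⟨b, hb, hba⟩
    rw [← hinv.1 hba, Ideal.Quotient.eq_zero_iff_mem.2 hb, map_zero]

theorem stI_idOn (U : (Spec (CommRingCat.of A)).Opens) (I : Ideal A) (W : U.toScheme.affineOpens)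
    {x : U.toScheme} (hx : x ∈ W.1) : DepthTwist.stI (idOn U I) W hx = I.map (germHom U x) := by
  rw [DepthTwist.stI, idOn, ModPairLib.ideal_comap _ U.ι ⟨⊤, isAffineOpen_top _⟩ W le_top, ker_ideal_top,
    Ideal.map_map, Ideal.map_map]
  congr 1
  refine RingHom.ext fun a => ?_
  exact U.toScheme.presheaf.germ_res_apply (homOfLE (le_top (a := W.1))) x hx _

theorem stI_idOn_pow (U : (Spec (CommRingCat.of A)).Opens) (I : Ideal A) (n : ℕ) (W : U.toScheme.affineOpens)
    {x : U.toScheme} (hx : x ∈ W.1) :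
    DepthTwist.stI (idOn U I ^ (n + 1)) W hx = (I ^ (n + 1)).map (germHom U x) := by
  rw [LefLib.stI_pow, stI_idOn, Ideal.map_pow]

variable [IsNoetherianRing A] (a : Ideal A)

local notation "Ua" => LocCoh.puncturedOpen A a

/-- The unit section. -/
def oneS : (secF Ua).obj (Coh.structureModule (Ua : (Spec (CommRingCat.of A)).Opens).toScheme) :=
  show Γ(Coh.structureModule (Ua : (Spec (CommRingCat.of A)).Opens).toScheme, ⊤) from
    (1 : Γ((Ua : (Spec (CommRingCat.of A)).Opens).toScheme, ⊤))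

theorem eSec_surjective (N : ModuleCat.{u} A) (h1 : Subsingleton (LocCoh.H a 1 N)) :
    Function.Surjective (eSec a N) := fun x => by
  obtain ⟨ψ, hψ, hψe⟩ := exists_toDT a N
  obtain ⟨e⟩ := LC.nonempty_cokerToDT a N
  haveI : Subsingleton ((LocCoh.idealTransform a).obj N ⧸ LinearMap.range (LocCoh.toDT a N)) :=
    @Equiv.subsingleton _ _ e.toEquiv h1
  obtain ⟨m, hm⟩ := (Submodule.Quotient.mk_eq_zero (LinearMap.range (LocCoh.toDT a N))).1
    (Subsingleton.elim (Submodule.Quotient.mk (ψ x)) 0)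
  exact ⟨m, hψ ((hψe m).trans hm)⟩

theorem eSec_injective (N : ModuleCat.{u} A) (h0 : Subsingleton (LocCoh.H a 0 N)) :
    Function.Injective (eSec a N) := by
  refine (injective_iff_map_eq_zero _).2 fun m hm => ?_
  have h := eSec_ker a N (show m ∈ LinearMap.ker (eSec a N).hom from hm)
  rw [(LC.subsingleton_H0_iff a N).1 h0, Submodule.mem_bot] at h
  exact h

/-- The generator of the sheaf of `A/I`. -/
def genS (I : Ideal A) :
    Coh.structureModule (Ua : (Spec (CommRingCat.of A)).Opens).toScheme ⟶ PhiU a (ModuleCat.of A (A ⧸ I)) :=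
  InvX.ofSect (show Γ(PhiU a (ModuleCat.of A (A ⧸ I)), ⊤) from
    eSec a (ModuleCat.of A (A ⧸ I)) (Ideal.Quotient.mk I 1))

theorem stalk_genS (I : Ideal A) (x : (Ua : (Spec (CommRingCat.of A)).Opens).toScheme)
    (r : (Ua : (Spec (CommRingCat.of A)).Opens).toScheme.presheaf.stalk x) :
    (DerSch.stalkFunctor _ x).map (genS a I) (RefX.unitStalk x r) =
      r • germM Ua (ModuleCat.of A (A ⧸ I)) x (Ideal.Quotient.mk I 1) := by
  refine (stalk_ofSect _ x r).trans ?_
  exact congrArg (r • ·) (germ_eSec a (ModuleCat.of A (A ⧸ I)) x (Ideal.Quotient.mk I 1))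

theorem smul_mk_one (I : Ideal A) (c : A) :
    c • (show ModuleCat.of A (A ⧸ I) from Ideal.Quotient.mk I 1) = Ideal.Quotient.mk I c := by
  show c • Ideal.Quotient.mk I (1 : A) = Ideal.Quotient.mk I c
  rw [Algebra.smul_def, Ideal.Quotient.algebraMap_eq, map_one, mul_one]

theorem genS_ker (I : Ideal A) (x : (Ua : (Spec (CommRingCat.of A)).Opens).toScheme)
    (r : (Ua : (Spec (CommRingCat.of A)).Opens).toScheme.presheaf.stalk x) :
    r • germM Ua (ModuleCat.of A (A ⧸ I)) x (Ideal.Quotient.mk I 1) = 0 ↔ r ∈ I.map (germHom Ua x) := by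
  let Q : ModuleCat.{u} A := ModuleCat.of A (A ⧸ I)
  let e₁ : Q := Ideal.Quotient.mk I (1 : A)
  constructor
  · intro h
    obtain ⟨c, k, hk, hck⟩ := exists_germA_fraction Ua x r
    have h0 : germM Ua Q x (c • e₁) = 0 := by rw [germM_smul, ← hck, mul_smul, h, smul_zero]
    obtain ⟨g, hg, hgc⟩ := (germM_eq_zero_iff Ua Q x _).1 h0
    rw [smul_smul, smul_mk_one] at hgc
    have hmem : germHom Ua x (g * c) ∈ I.map (germHom Ua x) :=
      Ideal.mem_map_of_mem _ (Ideal.Quotient.eq_zero_iff_mem.1 hgc)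
    obtain ⟨w, hw⟩ := (isUnit_germA Ua x g hg).mul (isUnit_germA Ua x k hk)
    rw [map_mul, germHom_apply, germHom_apply, ← hck, ← mul_assoc, ← hw] at hmem
    exact (Ideal.unit_mul_mem_iff_mem _ w.isUnit).1 hmem
  · intro h
    induction h using Submodule.span_induction with
    | mem y hy =>
      obtain ⟨c, hc, rfl⟩ := hy
      rw [germHom_apply, ← germM_smul, smul_mk_one, Ideal.Quotient.eq_zero_iff_mem.2 hc]
      exact germM_zero Ua Q x
    | zero => exact zero_smul _ _
    | add y z _ _ hy hz => rw [add_smul, hy, hz, add_zero]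
    | smul c y _ hy => rw [smul_eq_mul, mul_smul, hy, smul_zero]

instance epi_genS (I : Ideal A) : Epi (genS a I) := HomShX.epi_of_stalk _ fun x v => by
  obtain ⟨m, g, hg, hv⟩ := exists_germM Ua (ModuleCat.of A (A ⧸ I)) x v
  obtain ⟨c, rfl⟩ := Ideal.Quotient.mk_surjective m
  obtain ⟨w, hw⟩ := isUnit_germA Ua x g hg
  refine ⟨RefX.unitStalk x ((↑w⁻¹ : _) * germA Ua x c), (stalk_genS a I x _).trans ?_⟩
  rw [mul_smul, ← germM_smul, smul_mk_one, ← hv, ← hw, smul_smul, Units.inv_mul, one_smul]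

theorem isIso_genS_bot : IsIso (genS a (⊥ : Ideal A)) := by
  haveI : Mono (genS a (⊥ : Ideal A)) := HomShX.mono_of_stalk _ fun x => (injective_iff_map_eq_zero _).2 fun v hv => by
    obtain ⟨r, rfl⟩ := (RefX.unitStalk x).surjective v
    have h := (genS_ker a ⊥ x r).1 ((stalk_genS a ⊥ x r).symm.trans hv)
    rw [Ideal.map_bot, Submodule.mem_bot] at h
    rw [h, map_zero]
  exact isIso_of_mono_of_epi _

theorem toSubscheme_factor (I : Ideal A) (D : (Ua : (Spec (CommRingCat.of A)).Opens).toScheme.IdealSheafData)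
    (hD : ∀ (W : (Ua : (Spec (CommRingCat.of A)).Opens).toScheme.affineOpens) (x) (hx : x ∈ W.1),
      DepthTwist.stI D W hx = I.map (germHom Ua x)) :
    ∃ κ : PhiU a (ModuleCat.of A (A ⧸ I)) ≅ ClSub.quotMod D, genS a I ≫ κ.hom = ClSub.toSubscheme D := by
  haveI : Epi (ClSub.toSubscheme D) := CurvePoint.epi_toSubscheme _
  refine LefLib.exists_iso_under (genS a I) (ClSub.toSubscheme D) fun x z => ?_
  obtain ⟨r, rfl⟩ := (RefX.unitStalk x).surjective z
  obtain ⟨W, hx⟩ := FormalAlg.exists_affine x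
  rw [stalk_genS, genS_ker, LefLib.stalk_toSub_eq_zero_iff D W hx, unitStalk_mem_smul, hD W x hx]

theorem secF_genS (I : Ideal A) :
    (secF Ua).map (genS a I) (oneS a) = eSec a (ModuleCat.of A (A ⧸ I)) (Ideal.Quotient.mk I 1) :=
  InvX.one_ofSect _

/-- Sections of the structure sheaf come from the ring. -/
theorem exists_smul_oneS (h1 : Subsingleton (LocCoh.H a 1 (A ⧸ (⊥ : Ideal A))))
    (z : (secF Ua).obj (Coh.structureModule (Ua : (Spec (CommRingCat.of A)).Opens).toScheme)) :
    ∃ r : A, z = r • oneS a := by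
  haveI := isIso_genS_bot a
  obtain ⟨m, hm⟩ := eSec_surjective a (ModuleCat.of A (A ⧸ (⊥ : Ideal A))) h1 ((secF Ua).map (genS a ⊥) z)
  obtain ⟨r, rfl⟩ := Ideal.Quotient.mk_surjective m
  refine ⟨r, secF_injective Ua (genS a ⊥) ?_⟩
  rw [map_smul, secF_genS, ← map_smul, smul_mk_one]
  exact hm.symm

/-- Sections of a quotient of the structure sheaf. -/
theorem sections_quot (I : Ideal A) (D : (Ua : (Spec (CommRingCat.of A)).Opens).toScheme.IdealSheafData)
    (hD : ∀ (W : (Ua : (Spec (CommRingCat.of A)).Opens).toScheme.affineOpens) (x) (hx : x ∈ W.1),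
      DepthTwist.stI D W hx = I.map (germHom Ua x))
    (h0 : Subsingleton (LocCoh.H a 0 (A ⧸ I))) (h1 : Subsingleton (LocCoh.H a 1 (A ⧸ I))) :
    (∀ r : A, r • (secF Ua).map (ClSub.toSubscheme D) (oneS a) = 0 ↔ r ∈ I) ∧
      ∀ z, ∃ r : A, z = r • (secF Ua).map (ClSub.toSubscheme D) (oneS a) := by
  obtain ⟨κ, hκ⟩ := toSubscheme_factor a I D hD
  let e := (secF Ua).mapIso κ
  have hone : (secF Ua).map (ClSub.toSubscheme D) (oneS a) =
      e.hom (eSec a (ModuleCat.of A (A ⧸ I)) (Ideal.Quotient.mk I 1)) := by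
    rw [← hκ, Functor.map_comp, ConcreteCategory.comp_apply, secF_genS]
    rfl
  have key : ∀ r : A, r • (secF Ua).map (ClSub.toSubscheme D) (oneS a) =
      e.hom (eSec a (ModuleCat.of A (A ⧸ I)) (Ideal.Quotient.mk I r)) := fun r => by
    rw [hone, ← map_smul, ← map_smul, smul_mk_one]
  refine ⟨fun r => ?_, fun z => ?_⟩
  · rw [key, map_eq_zero_iff _ (ConcreteCategory.bijective_of_isIso e.hom).1,
      map_eq_zero_iff _ (eSec_injective a _ h0)]
    exact Ideal.Quotient.eq_zero_iff_mem
  · obtain ⟨y, rfl⟩ := (ConcreteCategory.bijective_of_isIso e.hom).2 z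
    obtain ⟨m, rfl⟩ := eSec_surjective a _ h1 y
    obtain ⟨r, rfl⟩ := Ideal.Quotient.mk_surjective m
    exact ⟨r, (key r).symm⟩

/-- The Lefschetz property of the structure sheaf, from depth. -/
theorem homToFormal_structure (J : Ideal A) [IsAdicComplete J A]
    (hA : Subsingleton (LocCoh.H a 1 (A ⧸ (⊥ : Ideal A))))
    (h0 : ∀ n, Subsingleton (LocCoh.H a 0 (A ⧸ J ^ (n + 1))))
    (h1 : ∀ n, Subsingleton (LocCoh.H a 1 (A ⧸ J ^ (n + 1)))) :
    Lef.HomToFormalBijective (idOn Ua J) (Coh.structureModule (Ua : (Spec (CommRingCat.of A)).Opens).toScheme) := by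
  let O := Coh.structureModule (Ua : (Spec (CommRingCat.of A)).Opens).toScheme
  let red := fun n => (secF Ua).map (ClSub.toSubscheme (idOn Ua J ^ (n + 1)))
  have hs := fun n => sections_quot a (J ^ (n + 1)) (idOn Ua J ^ (n + 1))
    (fun W x hx => stI_idOn_pow Ua J n W hx) (h0 n) (h1 n)
  have hext : ∀ {M : (Ua : (Spec (CommRingCat.of A)).Opens).toScheme.Modules} (f g : O ⟶ M),
      (secF Ua).map f (oneS a) = (secF Ua).map g (oneS a) → f = g := fun f g h => S10945.hom_ext_top h
  refine ⟨fun φ ψ he => hext φ ψ ?_, fun y hy => ?_⟩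
  · obtain ⟨r, hr⟩ := exists_smul_oneS a hA ((secF Ua).map φ (oneS a) - (secF Ua).map ψ (oneS a))
    have hmem : ∀ n, r ∈ J ^ (n + 1) := fun n => ((hs n).1 r).1 (by
      rw [← map_smul, ← hr, map_sub, ← ConcreteCategory.comp_apply, ← ConcreteCategory.comp_apply,
        ← Functor.map_comp, ← Functor.map_comp, he n, sub_self])
    have h2 : r = 0 := IsHausdorff.haus (I := J) inferInstance r fun n => by
      rw [SModEq.zero, smul_eq_mul, Ideal.mul_top]
      exact Ideal.pow_le_pow_right (Nat.le_succ n) (hmem n)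
    rw [h2, zero_smul, sub_eq_zero] at hr
    exact hr
  · choose r hr using fun n => (hs n).2 ((secF Ua).map (y n) (oneS a))
    have hstep : ∀ n, r (n + 1) - r n ∈ J ^ (n + 1) := fun n => ((hs n).1 _).1 (by
      rw [sub_smul, sub_eq_zero, ← hr n, ← hy n, Functor.map_comp, ConcreteCategory.comp_apply, hr (n + 1),
        map_smul, ← ConcreteCategory.comp_apply, ← Functor.map_comp, LefLib.toSubscheme_quotMap])
    have hcauchy : ∀ m n, m ≤ n → r n - r m ∈ J ^ (m + 1) := fun m n hmn => by
      induction n, hmn using Nat.le_induction with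
      | base => rw [sub_self]; exact Ideal.zero_mem _
      | succ n hn ih =>
        rw [← sub_add_sub_cancel (r (n + 1)) (r n) (r m)]
        exact Ideal.add_mem _ (Ideal.pow_le_pow_right (by omega) (hstep n)) ih
    obtain ⟨L, hL⟩ := IsPrecomplete.prec (I := J) inferInstance (f := r) (fun {m n} hmn => by
      rw [SModEq.sub_mem, smul_eq_mul, Ideal.mul_top, ← neg_sub]
      exact neg_mem (Ideal.pow_le_pow_right (Nat.le_succ m) (hcauchy m n hmn)))
    refine ⟨InvX.ofSect (show Γ(O, ⊤) from L • oneS a), fun n => hext _ _ ?_⟩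
    rw [Functor.map_comp, ConcreteCategory.comp_apply]
    show red n ((secF Ua).map (InvX.ofSect (show Γ(O, ⊤) from L • oneS a)) (oneS a)) = _
    rw [show (secF Ua).map (InvX.ofSect (show Γ(O, ⊤) from L • oneS a)) (oneS a) = L • oneS a from
      InvX.one_ofSect _, map_smul, hr n, ← sub_eq_zero, ← sub_smul, (hs n).1]
    have h3 := hL (n + 1)
    rw [SModEq.sub_mem, smul_eq_mul, Ideal.mul_top] at h3
    rw [show L - r n = (r (n + 1) - r n) - (r (n + 1) - L) by ring]
    exact Ideal.sub_mem _ (hstep n) h3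

/-- The open complementary to a zero locus is quasi-affine. -/
theorem isQuasiAffine_puncturedOpen :
    ((Ua : (Spec (CommRingCat.of A)).Opens) : Scheme.{u}).IsQuasiAffine := by
  haveI : IsNoetherianRing (CommRingCat.of A) := inferInstanceAs (IsNoetherianRing A)
  haveI : IsNoetherian (Spec (CommRingCat.of A)) := inferInstance
  haveI : CompactSpace ((Ua : (Spec (CommRingCat.of A)).Opens) : Scheme.{u}) :=
    isCompact_iff_compactSpace.1 (NoetherianSpace.isCompact (Ua : Set (Spec (CommRingCat.of A))))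
  exact Scheme.IsQuasiAffine.of_isImmersion (Scheme.Opens.ι Ua)

/-- The Lefschetz property of coherent modules, from depth. -/
theorem homToFormal_coh (J : Ideal A) [IsAdicComplete J A]
    (hA : Subsingleton (LocCoh.H a 1 (A ⧸ (⊥ : Ideal A))))
    (h0 : ∀ n, Subsingleton (LocCoh.H a 0 (A ⧸ J ^ (n + 1))))
    (h1 : ∀ n, Subsingleton (LocCoh.H a 1 (A ⧸ J ^ (n + 1))))
    {G : (Ua : (Spec (CommRingCat.of A)).Opens).toScheme.Modules} (hG : Coh.IsCoh G) :
    Lef.HomToFormalBijective (idOn Ua J) G := by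
  haveI : IsNoetherianRing (CommRingCat.of A) := inferInstanceAs (IsNoetherianRing A)
  haveI : IsNoetherian (Spec (CommRingCat.of A)) := inferInstance
  haveI : CompactSpace ((Ua : (Spec (CommRingCat.of A)).Opens) : Scheme.{u}) :=
    isCompact_iff_compactSpace.1 (NoetherianSpace.isCompact (Ua : Set (Spec (CommRingCat.of A))))
  haveI : IsNoetherian ((Ua : (Spec (CommRingCat.of A)).Opens) : Scheme.{u}) := ⟨⟩
  haveI := isQuasiAffine_puncturedOpen a
  exact LefLib.homToFormal_of_quasiAffine (homToFormal_structure a J hA h0 h1) hG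

end Groth.Agent.PunctAlg
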