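import Mathlib
import Groth.Prelude.Def_Algz
import Groth.Agent.PnCoh.Finite.HHLin
import Groth.Agent.QCoh.Ab.LerayNat
import Groth.Agent.Algz7.Sections

/-!
# Sections over an open of an affine scheme as modules
-/

set_option autoImplicit false
set_option linter.style.haveILetI false
set_option backward.isDefEq.respectTransparency false
set_option backward.isDefEq.respectTransparency.types false

universe u

open CategoryTheory CategoryTheory.Limits AlgebraicGeometry TopologicalSpace Opposite
open CategoryTheory.Abelian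

noncomputable section

namespace Groth.Agent.PunctAlg

open Groth.Agent

variable {A : Type u} [CommRing A] (U : (Spec (CommRingCat.of A)).Opens)

/-- Sections over `U`. -/
abbrev secF : (U : Scheme.{u}).Modules ⥤ ModuleCat.{u} A :=
  Scheme.Modules.pushforward U.ι ⋙ moduleSpecΓFunctor (R := CommRingCat.of A)

theorem secF_smul (F : (U : Scheme.{u}).Modules) (a : A) (x : (secF U).obj F) :
    (secF U).map (Formal.smulMod A F a) x = a • x := rfl

/-- Degree zero cohomology is the module of sections. -/
def h0 (F : (U : Scheme.{u}).Modules) : Coh.HH (U : Scheme.{u}) F 0 ≃ₗ[A] (secF U).obj F :=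
  { (Sheaf.H.equiv₀ (Coh.toAb F) isTerminalTop) with
    map_smul' := fun a z => by
      show Sheaf.H.equiv₀ (Coh.toAb F) isTerminalTop (a • z) =
        a • (show (secF U).obj F from Sheaf.H.equiv₀ (Coh.toAb F) isTerminalTop z)
      exact (Sheaf.H.equiv₀_naturality isTerminalTop
        ((QCoh.toAbFunctor (U : Scheme.{u})).map (Formal.smulMod A F a)) z).symm }

theorem h0_map {F F' : (U : Scheme.{u}).Modules} (φ : F ⟶ F') (z : Coh.HH (U : Scheme.{u}) F 0) :
    h0 U F' (PnCoh.Finite.mapLin A φ 0 z) = (secF U).map φ (h0 U F z) :=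
  (Sheaf.H.equiv₀_naturality isTerminalTop ((QCoh.toAbFunctor (U : Scheme.{u})).map φ) z).symm

instance preservesFiniteLimits_secF : PreservesFiniteLimits (secF U) := by
  haveI : (moduleSpecΓFunctor (R := CommRingCat.of A)).IsRightAdjoint :=
    (tilde.adjunction (R := CommRingCat.of A)).isRightAdjoint
  haveI : (Scheme.Modules.pushforward U.ι).IsRightAdjoint :=
    (Scheme.Modules.restrictAdjunction U.ι).isRightAdjoint
  exact comp_preservesFiniteLimits _ _

instance additive_secF : (secF U).Additive := Functor.additive_of_preserves_binary_products _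

theorem secF_injective {F F' : (U : Scheme.{u}).Modules} (φ : F ⟶ F') [Mono φ] :
    Function.Injective ((secF U).map φ) := by
  haveI : Mono ((secF U).map φ) := inferInstance
  exact (ModuleCat.mono_iff_injective _).1 inferInstance

theorem secF_exact {S : ShortComplex (U : Scheme.{u}).Modules} (hS : S.ShortExact) :
    Function.Exact ((secF U).map S.f) ((secF U).map S.g) := by
  haveI := hS.mono_f
  exact (ShortComplex.ShortExact.moduleCat_exact_iff_function_exact (S.map (secF U))).1
    (ShortComplex.exact_of_f_is_kernel _ (KernelFork.mapIsLimit _ hS.fIsKernel (secF U)))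

variable {S : ShortComplex (U : Scheme.{u}).Modules} (hS : S.ShortExact)

/-- The connecting map on sections. -/
def δ : (secF U).obj S.X₃ →ₗ[A] Coh.HH (U : Scheme.{u}) S.X₁ 1 :=
  (PnCoh.Finite.deltaLin A hS 0).comp (h0 U S.X₃).symm.toLinearMap

theorem exists_of_δ_eq_zero (x : (secF U).obj S.X₃) (h : δ U hS x = 0) : ∃ y, (secF U).map S.g y = x := by
  obtain ⟨y, hy⟩ := PnCoh.Finite.exists_of_deltaLin_eq_zero A hS 0 h
  refine ⟨h0 U S.X₂ y, ?_⟩
  rw [← h0_map, hy, LinearEquiv.coe_coe, LinearEquiv.apply_symm_apply]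

theorem δ_surjective (h : Subsingleton (Coh.HH (U : Scheme.{u}) S.X₂ 1)) : Function.Surjective (δ U hS) :=
  (QCoh.Ab.connecting_surjective (X := (U : Scheme.{u}).toPresheafedSpace.carrier)
    (QCoh.toAb_shortExact hS) 0 h).comp (h0 U S.X₃).symm.surjective

theorem δ_natural {T : ShortComplex (U : Scheme.{u}).Modules} (hT : T.ShortExact) (φ : S ⟶ T)
    (x : (secF U).obj S.X₃) :
    δ U hT ((secF U).map φ.τ₃ x) = PnCoh.Finite.mapLin A φ.τ₁ 1 (δ U hS x) := by
  obtain ⟨z, rfl⟩ := (h0 U S.X₃).surjective x
  rw [← h0_map]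
  simp only [δ, LinearMap.comp_apply, LinearEquiv.coe_coe, LinearEquiv.symm_apply_apply]
  exact (QCoh.Ab.connecting_naturality (X := (U : Scheme.{u}).toPresheafedSpace.carrier)
    (QCoh.toAb_shortExact hS) (QCoh.toAb_shortExact hT)
    ((QCoh.toAbFunctor (U : Scheme.{u})).mapShortComplex.map φ) 0 z).symm

end Groth.Agent.PunctAlg
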