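import Groth.Agent.PunctAlg.Sys
import Groth.Agent.PunctAlg.Sect
import Groth.Agent.Algz7.Extend
import Groth.Agent.Algz7.Algebraize
import Groth.Agent.Algz7.Canonical

/-!
# Algebraization for a principal ideal with finite obstructions
-/

set_option autoImplicit false
set_option linter.style.haveILetI false
set_option backward.isDefEq.respectTransparency false
set_option backward.isDefEq.respectTransparency.types false

universe u

open CategoryTheory CategoryTheory.Limits AlgebraicGeometry TopologicalSpace Opposite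

noncomputable section

namespace Groth.Agent.PunctAlg

open Groth.Agent

theorem imageSubobject_le_of_range_le {A : Type u} [CommRing A] {P Q R : ModuleCat.{u} A} (f : P ⟶ R) (g : Q ⟶ R)
    (h : ∀ z, ∃ w, g w = f z) : imageSubobject f ≤ imageSubobject g := by
  let W : Submodule A (P × Q) := LinearMap.ker (f.hom.comp (LinearMap.fst A P Q) - g.hom.comp (LinearMap.snd A P Q))
  let p : ModuleCat.of A W ⟶ P := ModuleCat.ofHom ((LinearMap.fst A P Q).comp W.subtype)
  let q : ModuleCat.of A W ⟶ Q := ModuleCat.ofHom ((LinearMap.snd A P Q).comp W.subtype)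
  haveI : Epi p := (ModuleCat.epi_iff_surjective _).2 fun z => by
    obtain ⟨w, hw⟩ := h z
    exact ⟨⟨(z, w), by
      show f z - g w = 0
      rw [hw, sub_self]⟩, rfl⟩
  have e : p ≫ f = q ≫ g := ModuleCat.hom_ext (LinearMap.ext fun v => sub_eq_zero.1 v.2)
  haveI := imageSubobject_comp_le_epi_of_epi p f
  haveI : IsIso (Subobject.ofLE _ _ (imageSubobject_comp_le p f)) := isIso_of_mono_of_epi _
  refine le_trans (Subobject.le_of_comm (inv (Subobject.ofLE _ _ (imageSubobject_comp_le p f))) (by simp)) ?_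
  calc imageSubobject (p ≫ f) = imageSubobject (q ≫ g) := by rw [e]
    _ ≤ imageSubobject g := imageSubobject_comp_le q g

theorem tr_trans_apply {A : Type u} [CommRing A] (T : ℕᵒᵖ ⥤ ModuleCat.{u} A) {i j k : ℕ} (h : i ≤ j) (h' : j ≤ k)
    (x : T.obj (op k)) : ARSys.tr T h (ARSys.tr T h' x) = ARSys.tr T (h.trans h') x :=
  congr($((T.map_comp (homOfLE h').op (homOfLE h).op).symm) x)

/-- Mittag-Leffler from obstructions in one Noetherian module. -/
theorem isML_of_obstruction {A : Type u} [CommRing A] (T : ℕᵒᵖ ⥤ ModuleCat.{u} A) (H : Type u) [AddCommGroup H]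
    [Module A H] [IsNoetherian A H] (D : ∀ r, T.obj (op r) →ₗ[A] H)
    (u : ∀ k j, T.obj (op k) →ₗ[A] T.obj (op (k + j)))
    (hD : ∀ r x, D r x = 0 → ∃ w, ARSys.tr T (Nat.le_succ r) w = x)
    (hu : ∀ k j x, D (k + j) (u k j x) = D k x)
    (htr : ∀ k j x, ARSys.tr T (show j ≤ k + (j + 1) by omega) (u k (j + 1) x) = 0) : ARSys.IsML T := by
  let B : ℕ →o Submodule A H :=
    ⟨fun r => LinearMap.range (D r), monotone_nat_of_le_succ fun r => by
      rintro _ ⟨x, rfl⟩
      exact ⟨u r 1 x, hu r 1 x⟩⟩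
  obtain ⟨r₀, hr₀⟩ := monotone_stabilizes_iff_noetherian.2 inferInstance B
  have hstep : ∀ (n r : ℕ) (hn : n ≤ r), n + r₀ + 1 ≤ r → ∀ x : T.obj (op r),
      ∃ w : T.obj (op (r + 1)), ARSys.tr T (hn.trans (Nat.le_succ r)) w = ARSys.tr T hn x := by
    intro n r hn hr x
    obtain ⟨j, rfl⟩ : ∃ j, r = r₀ + (j + 1) := ⟨r - r₀ - 1, by omega⟩
    obtain ⟨y, hy⟩ : D (r₀ + (j + 1)) x ∈ B r₀ := by
      rw [hr₀ (r₀ + (j + 1)) (Nat.le_add_right _ _)]
      exact ⟨x, rfl⟩
    obtain ⟨w, hw⟩ := hD _ (x - u r₀ (j + 1) y) (by rw [map_sub, hu, hy, sub_self])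
    refine ⟨w, ?_⟩
    rw [← tr_trans_apply T hn (Nat.le_succ _), hw, map_sub, sub_eq_self,
      ← tr_trans_apply T (show n ≤ j by omega) (show j ≤ r₀ + (j + 1) by omega), htr, map_zero]
  intro n
  refine ⟨r₀ + 1, fun s hs => ?_⟩
  have hback : ∀ q, ∀ (hq : n + (r₀ + 1) ≤ q) (x : T.obj (op (n + (r₀ + 1)))),
      ∃ w : T.obj (op q), ARSys.tr T ((Nat.le_add_right n (r₀ + 1)).trans hq) w =
          ARSys.tr T (Nat.le_add_right n (r₀ + 1)) x := by
    intro q hq
    induction q, hq using Nat.le_induction with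
    | base => exact fun x => ⟨x, rfl⟩
    | succ q hq ih =>
      intro x
      obtain ⟨w, hw⟩ := ih x
      obtain ⟨w', hw'⟩ := hstep n q ((Nat.le_add_right n (r₀ + 1)).trans hq) (by omega) w
      exact ⟨w', hw'.trans hw⟩
  refine le_antisymm (imageSubobject_le_of_range_le _ _ fun z => ?_) (imageSubobject_le_of_range_le _ _ fun z => ?_)
  · exact ⟨ARSys.tr T (show n + (r₀ + 1) ≤ n + s by omega) z, tr_trans_apply T _ _ z⟩
  · obtain ⟨w, hw⟩ := hback (n + s) (by omega) z
    exact ⟨w, hw⟩

/-- The adic topology on the limit. -/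
theorem ker_π_le_of_exact {A : Type u} [CommRing A] (T : ℕᵒᵖ ⥤ ModuleCat.{u} A) (t : A)
    (i : ∀ k, T.obj (op k) →ₗ[A] T.obj (op (k + 1))) (hi : ∀ k, Function.Injective (i k))
    (hex : ∀ k y, ARSys.tr T (Nat.zero_le (k + 1)) y = 0 → ∃ z, i k z = y)
    (hcomm : ∀ k z, ARSys.tr T (Nat.le_succ (k + 1)) (i (k + 1) z) = i k (ARSys.tr T (Nat.le_succ k) z))
    (hsmul : ∀ k z, ARSys.tr T (Nat.le_succ k) (i k z) = t • z) :
    ∀ n, LinearMap.ker (limit.π T (op n)).hom ≤ Ideal.span {t} ^ (n + 1) • (⊤ : Submodule A ↑(limit T)) := by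
  have hw : ∀ (y : (limit T : ModuleCat A)) {a b : ℕ} (h : a ≤ b), ARSys.tr T h (limit.π T (op b) y) = limit.π T (op a) y :=
    fun y a b h => congr($(limit.w T (homOfLE h).op) y)
  have hdiv : ∀ y : (limit T : ModuleCat A), limit.π T (op 0) y = 0 → ∃ z : (limit T : ModuleCat A),
      t • z = y ∧ ∀ k, i k (limit.π T (op k) z) = limit.π T (op (k + 1)) y := by
    intro y hy
    choose z hz using fun k => hex k (limit.π T (op (k + 1)) y) ((hw y (Nat.zero_le _)).trans hy)
    obtain ⟨x, hx⟩ := Algz7.exists_lift_limit T z fun k => hi k (by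
      show i k (ARSys.tr T (Nat.le_succ k) (z (k + 1))) = i k (z k)
      rw [← hcomm, hz (k + 1), hz k, hw])
    refine ⟨x, Concrete.limit_ext T _ _ fun j => ?_, fun k => by rw [← hz k]; exact congrArg _ (hx k)⟩
    obtain ⟨k⟩ := j
    rw [map_smul]
    refine (congrArg (t • ·) (hx k)).trans ?_
    show t • z k = _
    rw [← hsmul, hz k, hw]
  intro n
  induction n with
  | zero =>
    intro y hy
    obtain ⟨z, rfl, -⟩ := hdiv y hy
    exact Submodule.smul_mem_smul (by simp) Submodule.mem_top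
  | succ n ih =>
    intro y hy
    have hy' : limit.π T (op (n + 1)) y = 0 := hy
    obtain ⟨z, rfl, hz⟩ := hdiv y (by rw [← hw y (Nat.zero_le (n + 1)), hy', map_zero])
    have hzn : limit.π T (op n) z = 0 := hi n (by rw [hz n, hy', map_zero])
    rw [pow_succ', Submodule.mul_smul]
    exact Submodule.smul_mem_smul (Ideal.mem_span_singleton_self t) (ih hzn)

variable {A : Type u} [CommRing A] [IsNoetherianRing A] (U : (Spec (CommRingCat.of A)).Opens) (t : A)
  {G : ℕᵒᵖ ⥤ (U : Scheme.{u}).Modules} (hG : Formal.IsCohFormal (Ideal.span {t}) G)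
  (hmono : ∀ k, Mono (inc t hG k))

include hmono

omit [IsNoetherianRing A] in
theorem δ_inc (r : ℕ) (x : (secF U).obj (G.obj (op r))) :
    δ U (shortExact_bot t hG hmono (r + 1)) ((secF U).map (inc t hG r) x) =
      δ U (shortExact_bot t hG hmono r) x := by
  let φ : (ShortComplex.mk (bot t hG (r + 1)) (ρ G r) (bot_comp t hG r)) ⟶
      (ShortComplex.mk (bot t hG (r + 1 + 1)) (ρ G (r + 1)) (bot_comp t hG (r + 1))) :=
    { τ₁ := 𝟙 _
      τ₂ := inc t hG (r + 1)
      τ₃ := inc t hG r
      comm₁₂ := by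
        show 𝟙 _ ≫ bot t hG (r + 1 + 1) = bot t hG (r + 1) ≫ inc t hG (r + 1)
        rw [Category.id_comp]; rfl
      comm₂₃ := inc_ρ t hG r }
  refine (δ_natural U (shortExact_bot t hG hmono r) (shortExact_bot t hG hmono (r + 1)) φ x).trans ?_
  show Sheaf.H.map ((QCoh.toAbFunctor (U : Scheme.{u})).map (𝟙 (G.obj (op 0)))) 1 _ = _
  rw [CategoryTheory.Functor.map_id, Sheaf.H.map_id_apply]

omit [IsNoetherianRing A] in
theorem δ_incIter (k : ℕ) (x : (secF U).obj (G.obj (op k))) : ∀ j,
    δ U (shortExact_bot t hG hmono (k + j)) ((secF U).map (incIter t hG k j) x) =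
      δ U (shortExact_bot t hG hmono k) x := by
  intro j
  induction j with
  | zero =>
    show δ U (shortExact_bot t hG hmono k) ((secF U).map (𝟙 _) x) = _
    rw [CategoryTheory.Functor.map_id]; rfl
  | succ j ih =>
    rw [incIter, Functor.map_comp, ConcreteCategory.comp_apply]
    exact (δ_inc U t hG hmono (k + j) _).trans ih

omit [IsNoetherianRing A] in
theorem isML (h1 : _root_.IsNoetherian A (Coh.HH (U : Scheme.{u}) (G.obj (op 0)) 1)) :
    ARSys.IsML (Algz.sectMod A U G) := by
  show ARSys.IsML (G ⋙ secF U)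
  let D : ∀ r, ((G ⋙ secF U).obj (op r) : ModuleCat A) →ₗ[A] Coh.HH (U : Scheme.{u}) (G.obj (op 0)) 1 :=
    fun r => δ U (shortExact_bot t hG hmono r)
  refine isML_of_obstruction (G ⋙ secF U) (Coh.HH (U : Scheme.{u}) (G.obj (op 0)) 1) D
    (fun k j => ((secF U).map (incIter t hG k j)).hom)
    (fun r x hx => exists_of_δ_eq_zero U (shortExact_bot t hG hmono r) x hx) (fun k j x => δ_incIter U t hG hmono k x j) (fun k j x => ?_)
  have h := congrArg (fun f => (secF U).map f) (incIter_tr t hG k j)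
  simp only [Functor.map_comp, Functor.map_zero] at h
  exact congr(($h).hom x)

omit [IsNoetherianRing A] in
theorem ker_π_le (n : ℕ) : LinearMap.ker (limit.π (Algz.sectMod A U G) (op n)).hom ≤
    Ideal.span {t} ^ (n + 1) • (⊤ : Submodule A ↑(limit (Algz.sectMod A U G))) := by
  refine ker_π_le_of_exact (Algz.sectMod A U G) t (fun k => ((secF U).map (inc t hG k)).hom)
    (fun k => ?_) (fun k y hy => ?_) (fun k z => ?_) (fun k z => ?_) n
  · haveI := hmono k
    exact secF_injective U (inc t hG k)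
  · haveI := hmono k
    exact (secF_exact U (shortExact_inc t hG k) y).1 hy
  · have h := congrArg (fun f => (secF U).map f) (inc_ρ t hG k)
    simp only [Functor.map_comp] at h
    exact congr(($h).hom z)
  · have h := congrArg (fun f => (secF U).map f) (inc_comp t hG k)
    simp only [Functor.map_comp] at h
    exact (congr(($h).hom z)).trans (secF_smul U (G.obj (op k)) t z)

theorem finite_levels (h0 : Module.Finite A ((secF U).obj (G.obj (op 0)))) :
    ∀ n, Module.Finite A ((secF U).obj (G.obj (op n))) := by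
  intro n
  induction n with
  | zero => exact h0
  | succ n ih =>
    haveI := h0
    haveI := ih
    haveI := hmono n
    have hex := secF_exact U (shortExact_inc t hG n)
    refine ⟨Submodule.fg_of_fg_map_of_fg_inf_ker ((secF U).map (ARSys.tr G (Nat.zero_le (n + 1)))).hom
      (IsNoetherian.noetherian _) ?_⟩
    rw [top_inf_eq, hex.linearMap_ker_eq]
    exact Module.Finite.iff_fg.1 inferInstance

theorem canonicallyExtends (h0 : Module.Finite A ((secF U).obj (G.obj (op 0))))
    (h1 : Module.Finite A (Coh.HH (U : Scheme.{u}) (G.obj (op 0)) 1)) :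
    Algz.CanonicallyExtends A (Ideal.span {t}) U G := by
  haveI := h1
  refine Algz7.canonicallyExtends_of_isML (Ideal.span {t}) U G hG (isML U t hG hmono inferInstance)
    (fun k => ⟨k, (ker_π_le U t hG hmono k).trans (Submodule.smul_mono_left (Ideal.pow_le_pow_right (Nat.le_succ k)))⟩)
    (fun n => ?_)
  haveI : Module.Finite A ((Algz.sectMod A U G).obj (op n)) := finite_levels U t hG hmono h0 n
  exact Module.Finite.iff_fg.2 (IsNoetherian.noetherian _)

theorem exists_algebraization [IsAdicComplete (Ideal.span {t}) A]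
    (h0 : Module.Finite A ((secF U).obj (G.obj (op 0))))
    (h1 : Module.Finite A (Coh.HH (U : Scheme.{u}) (G.obj (op 0)) 1)) :
    ∃ F : (U : Scheme.{u}).Modules, Coh.IsCoh F ∧ Nonempty (Formal.completion (Ideal.span {t}) F ≅ G) :=
  Algz7.exists_completion_iso_of_extends U G
    (Algz7.extends_of_canonicallyExtends (Ideal.span {t}) U G hG (canonicallyExtends U t hG hmono h0 h1))

end Groth.Agent.PunctAlg
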