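import Groth.Agent.PunctAlg.Sys
import Groth.Agent.FormalAlg.Extension
import Groth.Agent.ModPairLib.Basic
import Groth.Agent.S8914

/-!
# Systems on the thickenings of a principal divisor of an open of an affine scheme
-/

set_option autoImplicit false
set_option linter.style.haveILetI false
set_option linter.unusedSectionVars false
set_option backward.isDefEq.respectTransparency false
set_option backward.isDefEq.respectTransparency.types false

universe u

open CategoryTheory CategoryTheory.Limits AlgebraicGeometry TopologicalSpace Opposite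

noncomputable section

namespace Groth.Agent.PunctAlg

open Groth.Agent

theorem basicOpen_nonZeroDivisors {R : CommRingCat.{u}} (g t : R) (ht : t ∈ nonZeroDivisors R) :
    (Spec R).presheaf.map (homOfLE (le_top (a := (PrimeSpectrum.basicOpen g : (Spec R).Opens)))).op
      ((Scheme.ΓSpecIso R).inv t) ∈ nonZeroDivisors Γ(Spec R, PrimeSpectrum.basicOpen g) := by
  haveI : IsLocalization.Away g Γ(Spec R, PrimeSpectrum.basicOpen g) :=
    inferInstanceAs (IsLocalization.Away (R := R) g Γ(Spec R, PrimeSpectrum.basicOpen g))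
  show algebraMap R Γ(Spec R, PrimeSpectrum.basicOpen g) t ∈ nonZeroDivisors Γ(Spec R, PrimeSpectrum.basicOpen g)
  exact IsLocalization.map_nonZeroDivisors_le (Submonoid.powers g) Γ(Spec R, PrimeSpectrum.basicOpen g) ⟨t, ht, rfl⟩

variable {A : Type u} [CommRing A] (U : (Spec (CommRingCat.of A)).Opens) (t : A)

/-- The divisor of `t` on the open. -/
abbrev divOn : (U : Scheme.{u}).IdealSheafData :=
  ((Spec.map (CommRingCat.ofHom (Ideal.Quotient.mk (Ideal.span {t})))).ker.comap U.ι)

/-- An element of the ring as a germ on the open. -/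
abbrev germA (x : U.toScheme) (a : A) : U.toScheme.presheaf.stalk x :=
  U.toScheme.presheaf.germ ⊤ x trivial (Coh.toGlobal (U.toScheme ↘ Spec (CommRingCat.of A)) a)

theorem toGlobal_opens (a : A) : Coh.toGlobal (U.toScheme ↘ Spec (CommRingCat.of A)) a =
    U.ι.appTop ((Scheme.ΓSpecIso (CommRingCat.of A)).inv a) := rfl

theorem ideal_top :
    (Spec.map (CommRingCat.ofHom (Ideal.Quotient.mk (Ideal.span {t})))).ker.ideal ⟨⊤, isAffineOpen_top _⟩ =
      Ideal.span {(Scheme.ΓSpecIso (CommRingCat.of A)).inv t} := by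
  let φ := CommRingCat.ofHom (Ideal.Quotient.mk (Ideal.span {t}))
  rw [Scheme.Hom.ker_apply]
  have h : (Spec.map φ).app ⊤ = (Scheme.ΓSpecIso (CommRingCat.of A)).hom ≫ φ ≫
      (Scheme.ΓSpecIso (CommRingCat.of (A ⧸ Ideal.span {t}))).inv := by
    rw [Scheme.ΓSpecIso_inv_naturality, Iso.hom_inv_id_assoc]
  change RingHom.ker ((Spec.map φ).app ⊤).hom = _
  rw [h]
  ext z
  obtain ⟨a, rfl⟩ := (ConcreteCategory.bijective_of_isIso (Scheme.ΓSpecIso (CommRingCat.of A)).inv).2 z
  rw [RingHom.mem_ker, Ideal.mem_span_singleton']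
  simp only [CommRingCat.hom_comp, RingHom.comp_apply, φ, CommRingCat.hom_ofHom]
  rw [show (Scheme.ΓSpecIso (CommRingCat.of A)).hom ((Scheme.ΓSpecIso (CommRingCat.of A)).inv a) = a from
    congr($((Scheme.ΓSpecIso (CommRingCat.of A)).inv_hom_id) a)]
  constructor
  · intro ha
    have h0 : Ideal.Quotient.mk (Ideal.span {t}) a = 0 :=
      (ConcreteCategory.bijective_of_isIso (Scheme.ΓSpecIso (CommRingCat.of (A ⧸ Ideal.span {t}))).inv).1
        (ha.trans (map_zero _).symm)
    obtain ⟨b, rfl⟩ := Ideal.mem_span_singleton'.1 (Ideal.Quotient.eq_zero_iff_mem.1 h0)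
    exact ⟨(Scheme.ΓSpecIso (CommRingCat.of A)).inv b, (map_mul _ _ _).symm⟩
  · rintro ⟨c, hc⟩
    obtain ⟨b, rfl⟩ := (ConcreteCategory.bijective_of_isIso (Scheme.ΓSpecIso (CommRingCat.of A)).inv).2 c
    rw [← map_mul] at hc
    rw [← (ConcreteCategory.bijective_of_isIso (Scheme.ΓSpecIso (CommRingCat.of A)).inv).1 hc,
      Ideal.Quotient.eq_zero_iff_mem.2 (Ideal.mul_mem_left _ b (Ideal.mem_span_singleton_self t)), map_zero]

theorem ideal_divOn (W : U.toScheme.affineOpens) :
    (divOn U t).ideal W = Ideal.span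
      {U.toScheme.presheaf.map (homOfLE (le_top (a := W.1))).op
        (Coh.toGlobal (U.toScheme ↘ Spec (CommRingCat.of A)) t)} := by
  rw [divOn, ModPairLib.ideal_comap _ U.ι ⟨⊤, isAffineOpen_top _⟩ W le_top, ideal_top, Ideal.map_span,
    Set.image_singleton]
  rfl

theorem stI_divOn (W : U.toScheme.affineOpens) {x : U.toScheme} (hx : x ∈ W.1) :
    DepthTwist.stI (divOn U t) W hx = Ideal.span {germA U x t} := by
  rw [DepthTwist.stI, ideal_divOn, Ideal.map_span, Set.image_singleton]
  exact congrArg (fun z => Ideal.span {z})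
    (U.toScheme.presheaf.germ_res_apply (homOfLE (le_top (a := W.1))) x hx _)

theorem stI_divOn_pow (W : U.toScheme.affineOpens) {x : U.toScheme} (hx : x ∈ W.1) (n : ℕ) :
    DepthTwist.stI (divOn U t) W hx ^ n = Ideal.span {germA U x (t ^ n)} := by
  rw [stI_divOn, Ideal.span_singleton_pow]
  exact congrArg (fun z => Ideal.span {z}) (by rw [germA, germA, map_pow, map_pow])

theorem stalk_smulMod (M : U.toScheme.Modules) (a : A) (x : U.toScheme)
    (v : (DerSch.stalkFunctor U.toScheme x).obj M) :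
    (DerSch.stalkFunctor U.toScheme x).map (Formal.smulMod A M a) v = germA U x a • v := by
  obtain ⟨V, hV, s, rfl⟩ := TopCat.Presheaf.exists_germ_eq M.presheaf v
  refine (DerSch.stalkFunctor_map_germ x _ V hV s).trans ?_
  refine ((congrArg (M.presheaf.germ V x hV) (show (Formal.smulMod A M a).app V s =
    U.toScheme.presheaf.map (homOfLE (le_top (a := V))).op (Coh.toGlobal (U.toScheme ↘ Spec (CommRingCat.of A)) a) • s from rfl))).trans ?_
  rw [QCoh.germ_smul' M hV]
  exact congrArg (fun r => r • M.presheaf.germ V x hV s)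
    (U.toScheme.presheaf.germ_res_apply (homOfLE (le_top (a := V))) x hV _)

theorem isInvertible_divOn (hreg : IsSMulRegular A t) : PicF.IsInvertible (ClSub.idealMod (divOn U t)) := by
  refine (S8914.result (divOn U t)).2 fun x => ?_
  obtain ⟨_, ⟨_, ⟨g, rfl⟩, rfl⟩, hxg, hgU⟩ :=
    (PrimeSpectrum.isBasis_basic_opens (R := A)).exists_subset_of_mem_open (show x.1 ∈ (U : Set _) from x.2) U.isOpen
  let D : (Spec (CommRingCat.of A)).Opens := PrimeSpectrum.basicOpen g
  have hD : IsAffineOpen (U.ι ⁻¹ᵁ D) := by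
    refine (Scheme.Hom.isAffineOpen_iff_of_isOpenImmersion U.ι).1 ?_
    rw [Scheme.Hom.image_preimage_eq_opensRange_inf, Scheme.Opens.opensRange_ι,
      inf_eq_right.2 (show D ≤ U from hgU)]
    exact (IsAffineOpen.Spec_basicOpen (R := CommRingCat.of A) g)
  refine ⟨⟨_, hD⟩, hxg, _, ?_, ideal_divOn U t _⟩
  have ht : (Spec (CommRingCat.of A)).presheaf.map (homOfLE (le_top (a := D))).op
      ((Scheme.ΓSpecIso (CommRingCat.of A)).inv t) ∈ nonZeroDivisors Γ(Spec (CommRingCat.of A), D) := by
    refine basicOpen_nonZeroDivisors (R := CommRingCat.of A) g t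
      (mem_nonZeroDivisors_iff_right.2 fun z hz => hreg ?_)
    show t • (z : A) = t • (0 : A)
    rw [smul_zero, smul_eq_mul, mul_comm]
    exact hz
  rw [toGlobal_opens]
  have hiso : IsIso (U.ι.app D) := by
    refine Scheme.Hom.isIso_app U.ι D ?_
    rw [Scheme.Opens.opensRange_ι]; exact hgU
  let e := (asIso (U.ι.app D)).commRingCatIsoToRingEquiv
  have he : U.toScheme.presheaf.map (homOfLE (le_top (a := U.ι ⁻¹ᵁ D))).op
      (U.ι.appTop ((Scheme.ΓSpecIso (CommRingCat.of A)).inv t)) =
      e ((Spec (CommRingCat.of A)).presheaf.map (homOfLE (le_top (a := D))).op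
        ((Scheme.ΓSpecIso (CommRingCat.of A)).inv t)) :=
    congr($((U.ι.naturality (homOfLE (le_top (a := D))).op).symm) ((Scheme.ΓSpecIso (CommRingCat.of A)).inv t))
  rw [he]
  exact mem_nonZeroDivisors_iff_right.2 fun z hz => by
    obtain ⟨w, rfl⟩ := e.surjective z
    rw [← map_mul, map_eq_zero_iff _ e.injective] at hz
    rw [(mem_nonZeroDivisors_iff_right.1 ht) w hz, map_zero]

theorem killedBy_iff (n : ℕ) (M : U.toScheme.Modules) :
    Formal.KilledBy (Ideal.span {t} ^ n) M ↔
      ∀ (x : U.toScheme) (v : (DerSch.stalkFunctor U.toScheme x).obj M), germA U x (t ^ n) • v = 0 := by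
  constructor
  · intro h x v
    rw [← stalk_smulMod, h _ (Ideal.pow_mem_pow (Ideal.mem_span_singleton_self t) n), Functor.map_zero]
    rfl
  · intro h b hb
    rw [Ideal.span_singleton_pow, Ideal.mem_span_singleton'] at hb
    obtain ⟨c, rfl⟩ := hb
    refine HomShX.ext_stalk fun x => LinearMap.ext fun v => ?_
    rw [HomShX.stalkMapₗ_zero]
    refine (stalk_smulMod U M (c * t ^ n) x v).trans ?_
    rw [germA, map_mul, map_mul, mul_smul]
    exact (congrArg _ (h x v)).trans (smul_zero _)

theorem isQuot_of_stalks (n : ℕ) {M N : U.toScheme.Modules} (g : M ⟶ N)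
    (hs : ∀ x, Function.Surjective ((DerSch.stalkFunctor U.toScheme x).map g))
    (hk : ∀ x v, (DerSch.stalkFunctor U.toScheme x).map g v = 0 → ∃ w, germA U x (t ^ n) • w = v)
    (hN : ∀ (x : U.toScheme) (v : (DerSch.stalkFunctor U.toScheme x).obj N), germA U x (t ^ n) • v = 0) :
    Algz7.IsQuot (Ideal.span {t} ^ n) g := by
  haveI : Epi g := HomShX.epi_of_stalk _ hs
  refine Algz7.IsQuot.mk' g ((killedBy_iff U t n N).2 hN) fun {P} φ hφ => ?_
  have h0 : kernel.ι g ≫ φ = 0 := by
    refine HomShX.ext_stalk fun x => LinearMap.ext fun v => ?_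
    rw [HomShX.stalkMapₗ_zero]
    show (DerSch.stalkFunctor U.toScheme x).map (kernel.ι g ≫ φ) v = 0
    rw [Functor.map_comp, ConcreteCategory.comp_apply]
    obtain ⟨w, hw⟩ := hk x ((DerSch.stalkFunctor U.toScheme x).map (kernel.ι g) v) (by
      rw [← ConcreteCategory.comp_apply, ← Functor.map_comp, kernel.condition, Functor.map_zero]; rfl)
    rw [← hw, ← stalk_smulMod, ← ConcreteCategory.comp_apply, ← Functor.map_comp,
      Algz7.smulMod_comp_eq_zero hφ (Ideal.pow_mem_pow (Ideal.mem_span_singleton_self t) n), Functor.map_zero]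
    rfl
  exact ⟨Abelian.epiDesc g φ h0, Abelian.comp_epiDesc g φ h0⟩

/-- A system on the ambient open gives a coherent formal module. -/
theorem isCohFormal_ofLevelSys (S : FormalAlg.LevelSys (divOn U t)) :
    Formal.IsCohFormal (Ideal.span {t}) (Functor.ofOpSequence S.ρ) := by
  have hkill : ∀ n (x : U.toScheme) (v : (DerSch.stalkFunctor U.toScheme x).obj (S.G n)),
      germA U x (t ^ (n + 1)) • v = 0 := fun n x v => by
    obtain ⟨W, hx⟩ := FormalAlg.exists_affine x
    exact S.killed n W x hx _ (by rw [stI_divOn_pow]; exact Ideal.mem_span_singleton_self _) v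
  refine ⟨S.coh, fun n => (killedBy_iff U t (n + 1) (S.G n)).2 (hkill n), fun n => ?_⟩
  rw [Functor.ofOpSequence_map_homOfLE_succ]
  refine isQuot_of_stalks U t (n + 1) (S.ρ n) (S.surj n) (fun x v hv => ?_) (hkill n)
  obtain ⟨W, hx⟩ := FormalAlg.exists_affine x
  have h := S.ker n W x hx v hv
  obtain ⟨w, hw⟩ := (FormalAlg.mem_pow_smul_top (stI_divOn U t W hx) (n + 1) v).1 h
  exact ⟨w, by rw [← hw, germA, germA, map_pow, map_pow]⟩

end Groth.Agent.PunctAlg
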