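import Groth.Agent.PunctAlg.Descent
import Groth.Agent.PunctAlg.Bridge
import Groth.Agent.ParaRel.Single

/-!
# Invertible modules trivial on the punctured divisor are trivial
-/

set_option autoImplicit false
set_option linter.style.haveILetI false
set_option linter.unusedSectionVars false
set_option backward.isDefEq.respectTransparency false
set_option backward.isDefEq.respectTransparency.types false

universe u

open CategoryTheory CategoryTheory.Limits AlgebraicGeometry TopologicalSpace Opposite TensorProduct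
open Groth.Agent.H23.PicMul

noncomputable section

namespace Groth.Agent.PunctAlg

open Groth.Agent

variable {A : Type u} [CommRing A] [IsNoetherianRing A] [IsLocalRing A]

/-- Triviality on the punctured spectrum of `A/J`, as triviality modulo `J`. -/
theorem trivMod_of_pullback_trivial (J : Ideal A) [IsLocalRing (A ⧸ J)]
    (hdepth : (2 : ℕ∞) ≤ LocCoh.depth (A ⧸ J) (A ⧸ J)) (M : ModuleCat.{u} A) [Module.Finite A M]
    (L : (FEt.puncturedSpec A : Scheme.{u}).Modules) (hL : PicF.IsInvertible L)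
    (eM : phi (FEt.puncturedSpec A) M ≅ L)
    (hiso : PicF.pullCl (Spec.map (CommRingCat.ofHom (Ideal.Quotient.mk J)) ∣_ FEt.puncturedSpec A) (PicF.cl L) =
      PicF.cl (Coh.structureModule _)) : ParaRel.TrivMod J M := by
  let g : A →+* A ⧸ J := Ideal.Quotient.mk J
  haveI : IsLocalHom g := IsLocalHom.of_surjective g Ideal.Quotient.mk_surjective
  have hcomap : ∀ q : Ideal (A ⧸ J), q.IsPrime → q ≠ IsLocalRing.maximalIdeal (A ⧸ J) →
      q.comap g ≠ IsLocalRing.maximalIdeal A := fun q _ hq he => hq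
    (Ideal.comap_injective_of_surjective g Ideal.Quotient.mk_surjective
      (he.trans (ParaRel.comap_maximalIdeal J).symm))
  obtain ⟨f, hf⟩ := exists_lb_of_pullback_trivial g hcomap hdepth M L eM hiso
  letI : Algebra A (A ⧸ J) := g.toAlgebra
  let e₀ := Submodule.quotEquivOfEqBot (⊥ : Ideal (A ⧸ J)) rfl
  let u : M → A ⧸ J := fun x => e₀ (f ((1 : A ⧸ J) ⊗ₜ[A] x))
  have hu : ∀ (a : A) (x : M), u (a • x) = g a * u x := fun a x => by
    show e₀ (f ((1 : A ⧸ J) ⊗ₜ[A] (a • x))) = g a * e₀ (f ((1 : A ⧸ J) ⊗ₜ[A] x))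
    rw [← smul_eq_mul, ← map_smul, ← map_smul, TensorProduct.smul_tmul', TensorProduct.tmul_smul,
      TensorProduct.smul_tmul']
    congr 3
  have hadd : ∀ x y : M, u (x + y) = u x + u y := fun x y => by
    show e₀ (f ((1 : A ⧸ J) ⊗ₜ[A] (x + y))) = _
    rw [TensorProduct.tmul_add, map_add, map_add]
  have hunit : ∀ q : Ideal (A ⧸ J), q.IsPrime → q ≠ IsLocalRing.maximalIdeal (A ⧸ J) → ∃ x, u x ∉ q := by
    intro q hq hqm
    obtain ⟨s, hs, z, hz⟩ := (hf q hq hqm).2 (e₀.symm 1)
    by_contra hne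
    push Not at hne
    refine hs ?_
    have key : ∀ w : (A ⧸ J) ⊗[A] M, e₀ (f w) ∈ q := fun w => by
      induction w using TensorProduct.induction_on with
      | zero => rw [map_zero, map_zero]; exact q.zero_mem
      | tmul c x =>
        rw [show c ⊗ₜ[A] x = c • ((1 : A ⧸ J) ⊗ₜ[A] x) by rw [TensorProduct.smul_tmul', smul_eq_mul, mul_one],
          map_smul, map_smul, smul_eq_mul]
        exact q.mul_mem_left c (hne x)
      | add w w' hw hw' => rw [map_add, map_add]; exact q.add_mem hw hw'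
    have h1 := key z
    rw [hz, map_smul, LinearEquiv.apply_symm_apply, smul_eq_mul, mul_one] at h1
    exact h1
  clear hf hiso
  clear_value u
  clear e₀ f
  let φ₀ : @LinearMap A A _ _ (RingHom.id A) M (A ⧸ J) _ _ _ (Submodule.Quotient.module J) :=
    { toFun := u
      map_add' := hadd
      map_smul' := fun a x => by
        rw [hu, RingHom.id_apply]
        obtain ⟨b, hb⟩ := Ideal.Quotient.mk_surjective (u x)
        rw [← hb]
        rfl }
  let K : Submodule A M := J • ⊤
  let φ := Submodule.liftQ K φ₀ (Submodule.smul_le.2 fun a ha x _ => by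
    show u (a • x) = 0
    rw [hu, show g a = 0 from Ideal.Quotient.eq_zero_iff_mem.2 ha, zero_mul])
  refine ⟨φ, fun p hp hpm => ?_⟩
  obtain ⟨e, s, hs, t, -, hsx, -⟩ := ParaRel.exists_local (lr_of_isInvertible M
    (isInvertible_of_iso eM.symm hL)) hp hpm
  obtain ⟨c, hc⟩ := Ideal.Quotient.mk_surjective (u e)
  refine ParaRel.bij_at (fun a ha x => ParaRel.smul_quot_mk_eq_zero J ha x) hp (Submodule.Quotient.mk e) s hs
    (fun x => ?_) φ c hc.symm (or_iff_not_imp_right.2 fun hJp hcp => ?_)
  · obtain ⟨x, rfl⟩ := Submodule.Quotient.mk_surjective _ x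
    obtain ⟨a, ha⟩ := hsx x
    exact ⟨a, by rw [← Submodule.Quotient.mk_smul, ← Submodule.Quotient.mk_smul, ha]⟩
  · have hker : RingHom.ker g ≤ p := by rw [Ideal.mk_ker]; exact not_not.1 hJp
    haveI := hp
    have hq : (p.map g).IsPrime := Ideal.map_isPrime_of_surjective Ideal.Quotient.mk_surjective hker
    have hcm : (p.map g).comap g = p := by
      rw [Ideal.comap_map_of_surjective _ Ideal.Quotient.mk_surjective]
      exact sup_eq_left.2 (by rw [← RingHom.ker_eq_comap_bot]; exact hker)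
    obtain ⟨x, hx⟩ := hunit _ hq fun he => hpm (by rw [← hcm, he]; exact ParaRel.comap_maximalIdeal J)
    obtain ⟨a, ha⟩ := hsx x
    have h1 := congrArg u ha
    rw [hu, hu, ← hc] at h1
    have h2 : g s * u x ∈ p.map g := by
      rw [h1]
      exact (p.map g).mul_mem_left _ (Ideal.mem_map_of_mem g hcp)
    refine (hq.mem_or_mem h2).elim (fun h => hs ?_) hx
    rw [← hcm]
    exact h

/-- Depth three on the closed subscheme with free graded pieces: trivial there implies trivial. -/
theorem picPullbackInjective_graded (J : Ideal A)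
    (hgr : ∀ n : ℕ, Module.Free (A ⧸ J) (↥(J ^ n) ⧸ (J • (⊤ : Submodule A ↥(J ^ n)))))
    [IsLocalRing (A ⧸ J)] (hb : (3 : ℕ∞) ≤ LocCoh.depth (A ⧸ J) (A ⧸ J)) :
    Formal2.PicPullbackInjective
      (Spec.map (CommRingCat.ofHom (Ideal.Quotient.mk J)) ∣_ FEt.puncturedSpec A) := by
  intro L hL hiso
  obtain ⟨M, hM, ⟨eM⟩⟩ := exists_phi_punctured L (CurveDeg.isCoh_of_isInvertible hL)
  haveI := hM
  have hJ : J ≠ ⊤ := Ideal.Quotient.nontrivial_iff.1 inferInstance
  have hd : ∀ i < 3, ParaRel.HVan (A := A) i (A ⧸ J) := fun i hi =>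
    ParaRel.hvan_of_depth (n := 3) ((ParaRel.depth_quot J).symm ▸ hb) hi
  obtain ⟨φ, hφ⟩ := ParaRel.exists_lb_of_trivMod (J := J) hgr hJ hd M
    (lr_of_isInvertible M (isInvertible_of_iso eM.symm hL))
    (trivMod_of_pullback_trivial J (le_trans (by norm_num) hb) M L hL eM (cl_eq_iff.2 hiso))
  obtain ⟨e⟩ := nonempty_phi_iso_of_lb M φ hφ
  exact ⟨eM.symm ≪≫ e⟩

/-- The same along the closed subscheme of the punctured spectrum cut out by `J`. -/
theorem picPullbackInjective_comap_graded (J : Ideal A)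
    (hgr : ∀ n : ℕ, Module.Free (A ⧸ J) (↥(J ^ n) ⧸ (J • (⊤ : Submodule A ↥(J ^ n)))))
    [IsLocalRing (A ⧸ J)] (hb : (3 : ℕ∞) ≤ LocCoh.depth (A ⧸ J) (A ⧸ J)) :
    Formal2.PicPullbackInjective (((Spec.map (CommRingCat.ofHom (Ideal.Quotient.mk (J)))).ker.comap
      (FEt.puncturedSpec A).ι)).subschemeι := by
  intro L hL hiso
  let σ := Spec.map (CommRingCat.ofHom (Ideal.Quotient.mk (J)))
  haveI : IsClosedImmersion σ := IsClosedImmersion.spec_of_surjective _ Ideal.Quotient.mk_surjective
  let i := σ ∣_ FEt.puncturedSpec A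
  have hker : i.ker = σ.ker.comap (FEt.puncturedSpec A).ι :=
    FComplLib.ker_of_isPullback (isPullback_morphismRestrict σ (FEt.puncturedSpec A))
  let θ : (σ ⁻¹ᵁ FEt.puncturedSpec A).toScheme ⟶ (σ.ker.comap (FEt.puncturedSpec A).ι).subscheme :=
    i.toImage ≫ Scheme.IdealSheafData.inclusion hker.ge
  have hθ : θ ≫ (σ.ker.comap (FEt.puncturedSpec A).ι).subschemeι = i := by
    show (i.toImage ≫ _) ≫ _ = i
    rw [Category.assoc, Scheme.IdealSheafData.inclusion_subschemeι]
    exact Scheme.Hom.toImage_imageι i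
  refine picPullbackInjective_graded J hgr hb L hL (cl_eq_iff.1 ?_)
  show PicF.pullCl i (PicF.cl L) = _
  rw [← hθ, ← PicClLib.pullCl_comp,
    show PicF.pullCl (σ.ker.comap (FEt.puncturedSpec A).ι).subschemeι (PicF.cl L) = 1 from
      (cl_eq_iff.2 hiso).trans H23.PicMul.one_def.symm, pullCl_one]
  exact H23.PicMul.one_def

/-- The same, for the ideal of a regular element. -/
theorem picPullbackInjective_comap (t : A) (hreg : IsSMulRegular A t)
    [IsLocalRing (A ⧸ Ideal.span {t})] (hb : (3 : ℕ∞) ≤ LocCoh.depth (A ⧸ Ideal.span {t}) (A ⧸ Ideal.span {t})) :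
    Formal2.PicPullbackInjective (((Spec.map (CommRingCat.ofHom (Ideal.Quotient.mk (Ideal.span {t})))).ker.comap
      (FEt.puncturedSpec A).ι)).subschemeι :=
  picPullbackInjective_comap_graded (Ideal.span {t}) (ParaRel.free_piece_principal t hreg) hb

/-- Parafactoriality lifts from the quotient by a regular element. -/
theorem isParafactorial_of_quot (t : A) (hreg : IsSMulRegular A t)
    [IsLocalRing (A ⧸ Ideal.span {t})] (hb : (3 : ℕ∞) ≤ LocCoh.depth (A ⧸ Ideal.span {t}) (A ⧸ Ideal.span {t}))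
    (hB : ParaF.IsParafactorialLocalRing (A ⧸ Ideal.span {t})) : ParaF.IsParafactorialLocalRing A := by
  obtain ⟨h1, h2⟩ := ParaRel.parafactorial_of_graded (Ideal.span {t})
    (Ideal.Quotient.nontrivial_iff.1 inferInstance) hb (ParaRel.free_piece_principal t hreg)
    ((ParaFX.isParafactorialLocalRing_iff _).1 hB).2
  exact (ParaFX.isParafactorialLocalRing_iff A).2
    ⟨(ParaExt.bijective_punctured_iff A).2 (le_trans (by norm_num) h1), h2⟩

end Groth.Agent.PunctAlg
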