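import Groth.Agent.PunctAlg.Lef
import Groth.Agent.PunctAlg.PicInj
import Groth.Agent.S0335
import Groth.Agent.LefLib.Connected

/-!
# Lefschetz for the punctured spectrum and an ideal with free graded pieces
-/

set_option autoImplicit false
set_option linter.style.haveILetI false
set_option linter.unusedSectionVars false
set_option backward.isDefEq.respectTransparency false
set_option backward.isDefEq.respectTransparency.types false

universe u

open CategoryTheory CategoryTheory.Limits AlgebraicGeometry TopologicalSpace Opposite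

noncomputable section

namespace Groth.Agent.PunctAlg

open Groth.Agent

variable {A : Type u} [CommRing A] [IsNoetherianRing A] [IsLocalRing A] (J : Ideal A) [IsLocalRing (A ⧸ J)]

/-- Completion along `J` is fully faithful on coherent modules of the punctured spectrum. -/
theorem homToFormal_punctured [IsAdicComplete J A]
    (hgr : ∀ n : ℕ, Module.Free (A ⧸ J) (↥(J ^ n) ⧸ (J • (⊤ : Submodule A ↥(J ^ n)))))
    (hd : (3 : ℕ∞) ≤ LocCoh.depth (A ⧸ J) (A ⧸ J))
    {G : (FEt.puncturedSpec A : Scheme.{u}).Modules} (hG : Coh.IsCoh G) :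
    Lef.HomToFormalBijective (idOn (FEt.puncturedSpec A) J) G := by
  revert G
  rw [puncturedSpec_eq_pU A]
  intro G hG
  have hJ : J ≠ ⊤ := Ideal.Quotient.nontrivial_iff.1 inferInstance
  have hv : ∀ i < 3, ParaRel.HVan (A := A) i (A ⧸ J) := fun i hi =>
    ParaRel.hvan_of_depth (n := 3) ((ParaRel.depth_quot J).symm ▸ hd) hi
  have hdA : (3 : ℕ∞) ≤ LocCoh.depth A A := by
    have hne : IsLocalRing.maximalIdeal A • (⊤ : Submodule A (A ⧸ J)) ≠ ⊤ := fun h => by
      haveI : Nontrivial (A ⧸ J) := Ideal.Quotient.nontrivial_iff.2 hJ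
      exact Submodule.top_ne_ideal_smul_of_le_jacobson_annihilator (IsLocalRing.maximalIdeal_le_jacobson _) h.symm
    have hd' : (3 : ℕ∞) ≤ LocCoh.depth A (A ⧸ J) := (ParaRel.depth_quot J).symm ▸ hd
    obtain ⟨rs, hreg, hmem, hlen⟩ := Alg6.exists_length_ge_of_le_idealDepth hne (n := 3) hd'
    have hA := ParaRel.isWeaklyRegular_of_pow hJ rs hmem fun n => ParaRel.isWeaklyRegular_pow hgr rs hreg (n + 1)
    show (3 : ℕ∞) ≤ LocCoh.idealDepth _ _
    unfold LocCoh.idealDepth
    split_ifs
    · exact le_top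
    · exact le_iSup₂_of_le rs ⟨hA, hmem⟩ (by exact_mod_cast hlen)
  refine homToFormal_coh (IsLocalRing.maximalIdeal A) J ?_
    (fun n => ParaRel.hvan_pow hgr (hv 0 (by omega)) (n + 1))
    (fun n => ParaRel.hvan_pow hgr (hv 1 (by omega)) (n + 1)) hG
  have h1 : ParaRel.HVan (A := A) 1 A := ParaRel.hvan_of_depth (n := 3) hdA (by omega)
  exact @Equiv.subsingleton _ _ ((localCohomology (IsLocalRing.maximalIdeal A) 1).mapIso
    (Submodule.quotEquivOfEqBot (⊥ : Ideal A) rfl).toModuleIso).toLinearEquiv.toEquiv h1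

/-- The trace of `V(J)` on the punctured spectrum is connected. -/
theorem isConnected_support_punctured (hd : (2 : ℕ∞) ≤ LocCoh.depth (A ⧸ J) (A ⧸ J)) :
    _root_.IsConnected ((idOn (FEt.puncturedSpec A) J).support : Set (FEt.puncturedSpec A : Scheme.{u})) := by
  let σ := Spec.map (CommRingCat.ofHom (Ideal.Quotient.mk J))
  haveI : IsClosedImmersion σ := IsClosedImmersion.spec_of_surjective _ Ideal.Quotient.mk_surjective
  have hc := S0335.result (A ⧸ J) hd
  have hs : ((idOn (FEt.puncturedSpec A) J).support : Set (FEt.puncturedSpec A : Scheme.{u})) =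
      (FEt.puncturedSpec A).ι ⁻¹' (σ '' {x : PrimeSpectrum (A ⧸ J) | x.asIdeal ≠ IsLocalRing.maximalIdeal (A ⧸ J)}) := by
    rw [idOn, Scheme.IdealSheafData.support_comap]
    show (FEt.puncturedSpec A).ι ⁻¹' (σ.ker.support : Set (Spec (CommRingCat.of A))) = _
    have hk : (σ.ker.support : Set (Spec (CommRingCat.of A))) = Set.range σ :=
      (Scheme.Hom.support_ker σ).trans (IsClosedImmersion.base_closed (f := σ)).isClosed_range.closure_eq
    rw [hk]
    ext y
    show (FEt.puncturedSpec A).ι y ∈ Set.range σ ↔ _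
    constructor
    · rintro ⟨x, hx⟩
      refine ⟨x, fun h => y.2 ?_, hx⟩
      show y.1 ∈ ({IsLocalRing.closedPoint A} : Set (PrimeSpectrum A))
      rw [Set.mem_singleton_iff, show y.1 = (FEt.puncturedSpec A).ι y from rfl, ← hx]
      refine PrimeSpectrum.ext ?_
      show x.asIdeal.comap (Ideal.Quotient.mk J) = _
      rw [h]
      exact ParaRel.comap_maximalIdeal J
    · rintro ⟨x, -, hx⟩
      exact ⟨x, hx⟩
  rw [hs]
  refine IsConnected.preimage_of_isOpenMap (hc.image σ σ.continuous.continuousOn)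
    (FEt.puncturedSpec A).ι.isOpenEmbedding.injective (FEt.puncturedSpec A).ι.isOpenEmbedding.isOpenMap ?_
  rintro _ ⟨x, hx, rfl⟩
  rw [Scheme.Opens.range_ι]
  intro h
  refine hx (Ideal.comap_injective_of_surjective (Ideal.Quotient.mk J) Ideal.Quotient.mk_surjective
    (Eq.trans ?_ (ParaRel.comap_maximalIdeal J).symm))
  exact congrArg PrimeSpectrum.asIdeal (Set.mem_singleton_iff.1 h)

end Groth.Agent.PunctAlg
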