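import Groth.Agent.PunctAlg.Bridge
import Groth.Agent.PunctAlg.ML

/-!
# Algebraization of locally free systems on the thickenings of a principal divisor
-/

set_option autoImplicit false
set_option linter.style.haveILetI false
set_option linter.unusedSectionVars false
set_option backward.isDefEq.respectTransparency false
set_option backward.isDefEq.respectTransparency.types false

universe u

open CategoryTheory CategoryTheory.Limits AlgebraicGeometry TopologicalSpace Opposite

noncomputable section

namespace Groth.Agent.PunctAlg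

open Groth.Agent

variable {A : Type u} [CommRing A] [IsNoetherianRing A] (U : (Spec (CommRingCat.of A)).Opens) (t : A)

omit [IsNoetherianRing A] in
theorem ρ_ofLevelSys (S : FormalAlg.LevelSys (divOn U t)) (k : ℕ) :
    ρ (Functor.ofOpSequence S.ρ) k = S.ρ k :=
  Functor.ofOpSequence_map_homOfLE_succ _ k

theorem mono_inc_ofLevelSys (S : FormalAlg.LevelSys (divOn U t)) (k : ℕ) :
    Mono (inc t (isCohFormal_ofLevelSys U t S) k) := by
  refine HomShX.mono_of_stalk _ fun x => (injective_iff_map_eq_zero _).2 fun v hv => ?_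
  obtain ⟨W, hx⟩ := FormalAlg.exists_affine x
  obtain ⟨w, hw⟩ := S.surj k x v
  have e := ρ_inc t (isCohFormal_ofLevelSys U t S) k
  rw [ρ_ofLevelSys] at e
  have h0 : germA U x t • w = 0 := by
    rw [← stalk_smulMod]
    refine (congr($(congrArg (DerSch.stalkFunctor U.toScheme x).map e) w)).symm.trans ?_
    rw [Functor.map_comp, ConcreteCategory.comp_apply]
    exact (congrArg _ hw).trans hv
  have h1 := S.regular k W x hx w fun r hr => by
    rw [stI_divOn, Ideal.mem_span_singleton'] at hr
    obtain ⟨c, rfl⟩ := hr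
    rw [mul_smul, h0, smul_zero]
  obtain ⟨w', hw'⟩ := (FormalAlg.mem_pow_smul_top (stI_divOn U t W hx) (k + 1) w).1 h1
  rw [← hw, ← hw', map_smul]
  exact S.killed k W x hx _ (by rw [stI_divOn]; exact Ideal.pow_mem_pow (Ideal.mem_span_singleton_self _) _) _

omit [IsNoetherianRing A] in
theorem stalk_modPowπ_surjective (M : U.toScheme.Modules) (n : ℕ) (x : U.toScheme) :
    Function.Surjective ((DerSch.stalkFunctor U.toScheme x).map (Formal.modPowπ (Ideal.span {t}) n M)) := by
  haveI : Epi (Formal.modPowπ (Ideal.span {t}) n M) := coequalizer.π_epi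
  haveI : Epi ((DerSch.stalkFunctor U.toScheme x).map (Formal.modPowπ (Ideal.span {t}) n M)) := inferInstance
  exact (ModuleCat.epi_iff_surjective _).1 inferInstance

omit [IsNoetherianRing A] in
theorem stalk_modPowπ_ker (M : U.toScheme.Modules) (n : ℕ) (x : U.toScheme)
    (v : (DerSch.stalkFunctor U.toScheme x).obj M)
    (hv : (DerSch.stalkFunctor U.toScheme x).map (Formal.modPowπ (Ideal.span {t}) n M) v = 0) :
    ∃ w, germA U x (t ^ n) • w = v := by
  let f := Formal.smulMod A M (t ^ n)
  let c := cokernel.π f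
  have hc : Formal.smulFamily (Ideal.span {t} ^ n) M ≫ c = 0 := by
    apply Sigma.hom_ext
    rintro ⟨a, ha⟩
    rw [comp_zero, ← Category.assoc, Formal.smulFamily, Sigma.ι_desc]
    rw [Ideal.span_singleton_pow, Ideal.mem_span_singleton'] at ha
    obtain ⟨b, rfl⟩ := ha
    show Formal.smulMod A M (b * t ^ n) ≫ c = 0
    rw [mul_comm, smulMod_mul, Category.assoc, cokernel.condition, comp_zero]
  have hcv : (DerSch.stalkFunctor U.toScheme x).map c v = 0 := by
    rw [show c = Formal.modPowπ (Ideal.span {t}) n M ≫ cokernel.desc _ c hc from (cokernel.π_desc _ _ _).symm,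
      Functor.map_comp, ConcreteCategory.comp_apply, hv, map_zero]
  have hex := (ShortComplex.exact_cokernel f).map (DerSch.stalkFunctor U.toScheme x)
  obtain ⟨w, hw⟩ := (ShortComplex.moduleCat_exact_iff _).1 hex v hcv
  exact ⟨w, (stalk_smulMod U M (t ^ n) x w).symm.trans hw⟩

/-- A locally free system with finite obstructions is the completion of a coherent module. -/
theorem exists_completion_iso [IsNoetherian (Spec (CommRingCat.of A))] [IsAdicComplete (Ideal.span {t}) A]
    (hreg : IsSMulRegular A t) (𝔐 : FSch.ModSys (FSch.completionAlong U.toScheme (divOn U t)))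
    (h : ∀ n, FlatMod.IsFinLocFree (𝔐.F n))
    (h0 : Module.Finite A ((secF U).obj ((Scheme.Modules.pushforward (divOn U t ^ (0 + 1)).subschemeι).obj (𝔐.F 0))))
    (h1 : Module.Finite A (Coh.HH (U : Scheme.{u})
      ((Scheme.Modules.pushforward (divOn U t ^ (0 + 1)).subschemeι).obj (𝔐.F 0)) 1)) :
    ∃ F : U.toScheme.Modules, Coh.IsCoh F ∧ Nonempty (FSch.complMod (divOn U t) F ≅ 𝔐) := by
  haveI : IsLocallyNoetherian U.toScheme := inferInstance
  let S := FormalAlg.ofModSys (isInvertible_divOn U t hreg) 𝔐 h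
  have hG := isCohFormal_ofLevelSys U t S
  obtain ⟨F, hF, ⟨φ⟩⟩ := exists_algebraization U t hG (mono_inc_ofLevelSys U t S) h0 h1
  let q : ∀ n, F ⟶ S.G n := fun n => Formal.modPowπ (Ideal.span {t}) (n + 1) F ≫ φ.hom.app (op n)
  refine ⟨F, hF, FormalAlg.nonempty_iso_of_quotient (isInvertible_divOn U t hreg) 𝔐 h hF.1 q (fun n => ?_)
    (fun n x => ?_) fun n W x hx v hv => ?_⟩
  · have hn := φ.hom.naturality (homOfLE (Nat.le_succ n)).op
    have e₁ : (Formal.completion (Ideal.span {t}) F).map (homOfLE (Nat.le_succ n)).op =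
        Formal.modPowTrans (Ideal.span {t}) (n + 1) F :=
      Functor.ofOpSequence_map_homOfLE_succ (X := fun n => Formal.modPow (Ideal.span {t}) (n + 1) F)
        (fun n => Formal.modPowTrans (Ideal.span {t}) (n + 1) F) n
    rw [e₁, Functor.ofOpSequence_map_homOfLE_succ] at hn
    show (Formal.modPowπ (Ideal.span {t}) (n + 1 + 1) F ≫ φ.hom.app (op (n + 1))) ≫ S.ρ n = q n
    rw [Category.assoc, ← hn, ← Category.assoc]
    exact congrArg (· ≫ φ.hom.app (op n)) (Formal.modPowπ_trans _ _ _)
  · show Function.Surjective ((DerSch.stalkFunctor U.toScheme x).map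
      (Formal.modPowπ (Ideal.span {t}) (n + 1) F ≫ φ.hom.app (op n)))
    rw [Functor.map_comp]
    exact (ConcreteCategory.bijective_of_isIso
      ((DerSch.stalkFunctor U.toScheme x).map (φ.hom.app (op n)))).2.comp (stalk_modPowπ_surjective U t F (n + 1) x)
  · have hv' : (DerSch.stalkFunctor U.toScheme x).map
        (Formal.modPowπ (Ideal.span {t}) (n + 1) F ≫ φ.hom.app (op n)) v = 0 := hv
    rw [Functor.map_comp, ConcreteCategory.comp_apply] at hv'
    obtain ⟨w, hw⟩ := stalk_modPowπ_ker U t F (n + 1) x v ((ConcreteCategory.bijective_of_isIso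
      ((DerSch.stalkFunctor U.toScheme x).map (φ.hom.app (op n)))).1 (hv'.trans (map_zero _).symm))
    rw [FormalAlg.mem_pow_smul_top (stI_divOn U t W hx)]
    exact ⟨w, by rw [← hw, germA, germA, map_pow, map_pow]⟩

end Groth.Agent.PunctAlg
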