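import Groth.Agent.PunctAlg.PicExtend
import Groth.Agent.PunctAlg.Finite
import Groth.Agent.ParaRel.Desc
import Groth.Agent.ParaRel.Geom
import Groth.Agent.QCoh.Pullback

/-!
# Descent of triviality on punctured spectra along flat local maps
-/

set_option autoImplicit false
set_option linter.style.haveILetI false
set_option linter.unusedSectionVars false
set_option backward.isDefEq.respectTransparency false
set_option backward.isDefEq.respectTransparency.types false

universe u

open CategoryTheory CategoryTheory.Limits AlgebraicGeometry TopologicalSpace Opposite TensorProduct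
open Groth.Agent.H23.PicMul

noncomputable section

namespace Groth.Agent.PunctAlg

open Groth.Agent

variable {A : Type u} [CommRing A]

/-- The sheaf of the ring is the structure module. -/
def phiSelf (U : (Spec (CommRingCat.of A)).Opens) :
    phi U (ModuleCat.of A A) ≅ Coh.structureModule U.toScheme :=
  (Scheme.Modules.restrictFunctor U.ι).mapIso (tildeSelf (R := CommRingCat.of A)) ≪≫
    Scheme.Modules.restrictUnitIso U.ι

variable [IsNoetherianRing A] [IsLocalRing A]

theorem exists_phi_punctured (F : (FEt.puncturedSpec A : Scheme.{u}).Modules) (hF : Coh.IsCoh F) :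
    ∃ (N : ModuleCat.{u} A) (_ : Module.Finite A N), Nonempty (phi (FEt.puncturedSpec A) N ≅ F) := by
  revert F
  rw [puncturedSpec_eq_pU A]
  exact fun F hF => exists_PhiU _ F hF

/-- A module of the punctured spectrum trivial at the level of modules is trivial. -/
theorem nonempty_phi_iso_of_lb (M : ModuleCat.{u} A) (φ : M →ₗ[A] A ⧸ (⊥ : Ideal A)) (hφ : ParaRel.LB φ) :
    Nonempty (phi (FEt.puncturedSpec A) M ≅ Coh.structureModule (FEt.puncturedSpec A : Scheme.{u})) := by
  let q := Submodule.quotEquivOfEqBot (⊥ : Ideal A) rfl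
  let φ' : M ⟶ ModuleCat.of A A := ModuleCat.ofHom (q.toLinearMap ∘ₗ φ)
  haveI : IsIso ((H1Punct.Φ (FEt.puncturedSpec A)).map φ') := isIso_phi_map _ φ' fun x => by
    have hne : ((FEt.puncturedSpec A).ι x).asIdeal ≠ IsLocalRing.maximalIdeal A := fun h =>
      x.2 (Set.mem_singleton_iff.2 (PrimeSpectrum.ext h))
    obtain ⟨h1, h2⟩ := hφ _ ((FEt.puncturedSpec A).ι x).2 hne
    refine ⟨fun m hm => h1 m (q.map_eq_zero_iff.1 hm), fun y => ?_⟩
    obtain ⟨s, hs, m, hm⟩ := h2 (q.symm y)
    exact ⟨s, hs, m, by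
      show q (φ m) = s • y
      rw [hm, map_smul, LinearEquiv.apply_symm_apply]⟩
  exact ⟨asIso ((H1Punct.Φ (FEt.puncturedSpec A)).map φ') ≪≫ phiSelf _⟩

theorem lr_of_isInvertible (M : ModuleCat.{u} A) (hM : PicF.IsInvertible (phi (FEt.puncturedSpec A) M)) :
    ParaRel.LR (⊥ : Ideal A) M := fun p hp hpm => by
  obtain ⟨e, he, ha⟩ := rk1_of_isInvertible (FEt.puncturedSpec A) M hM
    ⟨⟨p, hp⟩, fun h => hpm (congrArg PrimeSpectrum.asIdeal h)⟩
  refine ⟨e, he, fun a h => ?_⟩
  obtain ⟨s, hs, hsa⟩ := ha a h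
  exact ⟨s, hs, (Submodule.mem_bot A).2 hsa⟩

/-- Triviality of the pullback, as a map of modules. -/
theorem exists_lb_of_pullback_trivial {B : Type u} [CommRing B] [IsNoetherianRing B] [IsLocalRing B]
    (g : A →+* B) [IsLocalHom g]
    (hcomap : ∀ q : Ideal B, q.IsPrime → q ≠ IsLocalRing.maximalIdeal B →
      q.comap g ≠ IsLocalRing.maximalIdeal A)
    (hdepth : (2 : ℕ∞) ≤ LocCoh.depth B B) (M : ModuleCat.{u} A) [Module.Finite A M]
    (L : (FEt.puncturedSpec A : Scheme.{u}).Modules) (eM : phi (FEt.puncturedSpec A) M ≅ L)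
    (hiso : PicF.pullCl (Spec.map (CommRingCat.ofHom g) ∣_ FEt.puncturedSpec A) (PicF.cl L) =
      PicF.cl (Coh.structureModule _)) :
    letI := g.toAlgebra
    ∃ f : B ⊗[A] M →ₗ[B] B ⧸ (⊥ : Ideal B), ParaRel.LB f := by
  letI : Algebra A B := g.toAlgebra
  haveI : IsLocalRing (CommRingCat.of B) := ‹IsLocalRing B›
  haveI : IsNoetherianRing (CommRingCat.of B) := ‹IsNoetherianRing B›
  haveI : IsNoetherianRing (CommRingCat.of A) := ‹IsNoetherianRing A›
  let U : (Spec (CommRingCat.of A)).Opens := FEt.puncturedSpec A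
  let σ := Spec.map (CommRingCat.ofHom g)
  let E : ModuleCat.{u} B := (ModuleCat.extendScalars.{_, _, u} g).obj M
  have hcl : PicF.cl ((tilde (R := CommRingCat.of B) E).restrict (σ ⁻¹ᵁ U).ι) =
      PicF.cl (Coh.structureModule ((σ ⁻¹ᵁ U : (Spec (CommRingCat.of B)).Opens) : Scheme.{u})) := by
    have h0 : PicF.pullCl (σ ∣_ U) (PicF.cl L) =
        PicF.cl (Coh.structureModule ((σ ⁻¹ᵁ U : (Spec (CommRingCat.of B)).Opens) : Scheme.{u})) :=
      hiso
    have h1 : PicF.pullCl σ (PicF.cl (tilde (R := CommRingCat.of A) M)) =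
        PicF.cl (tilde (R := CommRingCat.of B) E) :=
      cl_eq_iff.2 ⟨(QCoh.tildePullbackIso (CommRingCat.ofHom g)).app M⟩
    have h2 : PicF.cl L = PicF.pullCl U.ι (PicF.cl (tilde (R := CommRingCat.of A) M)) := by
      rw [← ParaExt.cl_restrict']
      exact cl_eq_iff.2 ⟨eM.symm⟩
    rw [h2, PicClLib.pullCl_comp, morphismRestrict_ι, ← PicClLib.pullCl_comp, h1, ← ParaExt.cl_restrict'] at h0
    exact h0
  have hpre : σ ⁻¹ᵁ U = (FEt.puncturedSpec B : (Spec (CommRingCat.of B)).Opens) := by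
    ext x
    show σ x ∈ ({IsLocalRing.closedPoint A}ᶜ : Set (PrimeSpectrum A)) ↔
      x ∈ ({IsLocalRing.closedPoint B}ᶜ : Set (PrimeSpectrum B))
    refine not_congr ?_
    rw [Set.mem_singleton_iff, Set.mem_singleton_iff]
    constructor
    · intro h
      by_contra hx
      exact hcomap x.asIdeal x.2 (fun h' => hx (PrimeSpectrum.ext h')) (congrArg PrimeSpectrum.asIdeal h)
    · rintro rfl
      exact IsLocalRing.comap_closedPoint g
  haveI : Module.Finite B (B ⊗[A] M) := inferInstance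
  have hex : ∃ f : B ⊗[A] M →ₗ[B] B ⧸ (⊥ : Ideal B), ParaRel.LB f := by
    have key : ∀ V : (Spec (CommRingCat.of B)).Opens, V = FEt.puncturedSpec B →
        Nonempty ((tilde (R := CommRingCat.of B) E).restrict V.ι ≅ Coh.structureModule (V : Scheme.{u})) →
        ∃ f : B ⊗[A] M →ₗ[B] B ⧸ (⊥ : Ideal B), ParaRel.LB f := by
      rintro V rfl ⟨ψ⟩
      exact ParaRel.lb_of_iso (R := CommRingCat.of B) (B ⊗[A] M) hdepth ψ
    exact key _ hpre (cl_eq_iff.1 hcl)
  exact hex

/-- A flat local map with one point over the closed point and depth two upstairs detects triviality. -/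
theorem picPullbackInjective_of_flat {B : Type u} [CommRing B] [IsNoetherianRing B] [IsLocalRing B]
    (g : A →+* B) [IsLocalHom g] (hflat : g.Flat)
    (hcomap : ∀ q : Ideal B, q.IsPrime → q ≠ IsLocalRing.maximalIdeal B →
      q.comap g ≠ IsLocalRing.maximalIdeal A)
    (hdepth : (2 : ℕ∞) ≤ LocCoh.depth B B) :
    Formal2.PicPullbackInjective (Spec.map (CommRingCat.ofHom g) ∣_ FEt.puncturedSpec A) := by
  intro L hL hiso
  letI : Algebra A B := g.toAlgebra
  haveI : IsLocalHom (algebraMap A B) := ‹IsLocalHom g›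
  haveI : Module.Flat A B := hflat
  obtain ⟨M, hM, ⟨eM⟩⟩ := exists_phi_punctured L (CurveDeg.isCoh_of_isInvertible hL)
  haveI := hM
  have hLR : ParaRel.LR (⊥ : Ideal A) M := lr_of_isInvertible M (isInvertible_of_iso eM.symm hL)
  obtain ⟨f, hf⟩ := exists_lb_of_pullback_trivial g hcomap hdepth M L eM (cl_eq_iff.2 hiso)
  obtain ⟨φ, hφ⟩ := ParaRel.exists_lb_of_flat (A := A) (B := B) hcomap
    (ParaRel.hvan_of_depth (n := 2) hdepth (by norm_num)) (ParaRel.hvan_of_depth (n := 2) hdepth (by norm_num))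
    M hLR ⟨f, hf⟩
  obtain ⟨e⟩ := nonempty_phi_iso_of_lb M φ hφ
  exact ⟨eM.symm ≪≫ e⟩

end Groth.Agent.PunctAlg
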