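import Groth.Agent.PunctAlg.PicSurj

/-!
# Invertible modules on the punctured divisor extend to a neighbourhood
-/

set_option autoImplicit false
set_option linter.style.haveILetI false
set_option linter.unusedSectionVars false
set_option backward.isDefEq.respectTransparency false
set_option backward.isDefEq.respectTransparency.types false

universe u

open CategoryTheory CategoryTheory.Limits AlgebraicGeometry TopologicalSpace Opposite
open Groth.Agent.H23.PicMul

noncomputable section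

namespace Groth.Agent.PunctAlg

open Groth.Agent

variable {A : Type u} [CommRing A] [IsNoetherianRing A]

/-- Extension to an open neighbourhood, for the restricted quotient map. -/
theorem exists_nhd_extension (a : Ideal A) (t : A) [IsAdicComplete (Ideal.span {t}) A] (hreg : IsSMulRegular A t)
    (h1 : Module.Finite A (LocCoh.H a 1 (A ⧸ Ideal.span {t})))
    (h2 : Module.Finite A (LocCoh.H a 2 (A ⧸ Ideal.span {t})))
    (h3 : Subsingleton (LocCoh.H a 3 (A ⧸ Ideal.span {t})))
    (U : (Spec (CommRingCat.of A)).Opens) (hU : U = pU a)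
    (L₀ : (↑(Formal2.specQuotMap A t ⁻¹ᵁ U) : Scheme.{u}).Modules) (hL₀ : PicF.IsInvertible L₀) :
    ∃ (U' : (Spec (CommRingCat.of A)).Opens) (_ : U' ≤ U)
      (h : Formal2.specQuotMap A t ⁻¹ᵁ U ≤ Formal2.specQuotMap A t ⁻¹ᵁ U')
      (L : (↑U' : Scheme.{u}).Modules), PicF.IsInvertible L ∧
        Nonempty ((Scheme.Modules.pullback ((Formal2.specQuotMap A t).resLE U' _ h)).obj L ≅ L₀) := by
  subst hU
  haveI : IsNoetherianRing (CommRingCat.of A) := inferInstanceAs (IsNoetherianRing A)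
  haveI : IsNoetherian (Spec (CommRingCat.of A)) := inferInstance
  let f := Formal2.specQuotMap A t
  haveI : IsClosedImmersion f :=
    IsClosedImmersion.spec_of_surjective _ Ideal.Quotient.mk_surjective
  let i := f ∣_ pU a
  haveI : IsClosedImmersion i := inferInstance
  have hker : i.ker = divOn (pU a) t ^ (0 + 1) := by
    rw [zero_add, pow_one]
    exact FComplLib.ker_of_isPullback (isPullback_morphismRestrict f (pU a))
  let k := (divOn (pU a) t ^ (0 + 1)).subschemeι
  let e := i.toImage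
  let e' : i.ker.subscheme ⟶ (divOn (pU a) t ^ (0 + 1)).subscheme := Scheme.IdealSheafData.inclusion hker.ge
  let e'' : (divOn (pU a) t ^ (0 + 1)).subscheme ⟶ i.ker.subscheme := Scheme.IdealSheafData.inclusion hker.le
  haveI : IsIso e' := ⟨e'', (cancel_mono i.ker.subschemeι).1 (by simp [e', e'']),
    (cancel_mono (divOn (pU a) t ^ (0 + 1)).subschemeι).1 (by simp [e', e''])⟩
  let θ := e ≫ e'
  have hθ : θ ≫ k = i := by
    show (e ≫ e') ≫ k = i
    rw [Category.assoc, Scheme.IdealSheafData.inclusion_subschemeι]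
    exact Scheme.Hom.toImage_imageι i
  let N := (Scheme.Modules.pullback (inv θ)).obj L₀
  obtain ⟨F, V, hV, -, hFV, ⟨eN⟩⟩ := exists_extension a t hreg h1 h2 h3 N (PicClLib.isInvertible_pullback _ hL₀)
  let U' : (Spec (CommRingCat.of A)).Opens := (pU a).ι ''ᵁ V
  have hle : U' ≤ pU a := (pU a).ι_image_le V
  have h : f ⁻¹ᵁ pU a ≤ f ⁻¹ᵁ U' := fun z hz => by
    have hmem : i ⟨z, hz⟩ ∈ ((divOn (pU a) t).support : Set (pU a).toScheme) := by
      rw [← Scheme.IdealSheafData.support_pow_succ (divOn (pU a) t) 0, ← Scheme.IdealSheafData.range_subschemeι]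
      exact ⟨θ ⟨z, hz⟩, congrArg (fun φ : (↑(f ⁻¹ᵁ pU a) : Scheme.{u}) ⟶ (pU a).toScheme => φ ⟨z, hz⟩) hθ⟩
    exact ⟨i ⟨z, hz⟩, hV hmem, congrArg (fun φ : (↑(f ⁻¹ᵁ pU a) : Scheme.{u}) ⟶ Spec (CommRingCat.of A) => φ ⟨z, hz⟩)
      (morphismRestrict_ι f (pU a))⟩
  let w : (↑U' : Scheme.{u}) ⟶ (pU a).toScheme := (Spec (CommRingCat.of A)).homOfLE hle
  have hr : Set.range w ⊆ Set.range V.ι := by
    rintro _ ⟨z, rfl⟩
    rw [Scheme.Opens.range_ι]
    obtain ⟨v, hv, hvz⟩ := z.2
    have : w z = v := (pU a).ι.isOpenEmbedding.injective (by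
      rw [← Scheme.Hom.comp_apply, Scheme.homOfLE_ι]; exact hvz.symm)
    rw [this]; exact hv
  let b := IsOpenImmersion.lift V.ι w hr
  have hb : b ≫ V.ι = w := IsOpenImmersion.lift_fac _ _ _
  let L := (Scheme.Modules.pullback w).obj F
  have hL : PicF.IsInvertible L :=
    H23.PicMul.isInvertible_of_iso
      ((Scheme.Modules.pullback b).mapIso ((Scheme.Modules.restrictFunctorIsoPullback V.ι).app F) ≪≫
        (Scheme.Modules.pullbackComp b V.ι).app F ≪≫ (Scheme.Modules.pullbackCongr hb).app F)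
      (PicClLib.isInvertible_pullback b hFV)
  refine ⟨U', hle, h, L, hL, cl_eq_iff.1 ?_⟩
  have hw : f.resLE U' _ h ≫ w = θ ≫ k := by
    rw [hθ, ← cancel_mono (pU a).ι, Category.assoc, Scheme.homOfLE_ι, Scheme.Hom.resLE_comp_ι, morphismRestrict_ι]
  show PicF.pullCl (f.resLE U' _ h) (PicF.pullCl w (PicF.cl F)) = PicF.cl L₀
  rw [PicClLib.pullCl_comp, hw, ← PicClLib.pullCl_comp,
    show PicF.pullCl k (PicF.cl F) = PicF.cl N from cl_eq_iff.2 ⟨eN⟩,
    show PicF.cl N = PicF.pullCl (inv θ) (PicF.cl L₀) from rfl, PicClLib.pullCl_comp, IsIso.hom_inv_id,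
    PicClLib.pullCl_id]

end Groth.Agent.PunctAlg
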