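import Groth.Agent.PunctAlg.PicExtend
import Groth.Agent.PunctAlg.Local
import Groth.Agent.PunctAlg.Finite

/-!
# Invertible modules on the punctured divisor extend to the punctured spectrum
-/

set_option autoImplicit false
set_option linter.style.haveILetI false
set_option linter.unusedSectionVars false
set_option backward.isDefEq.respectTransparency false
set_option backward.isDefEq.respectTransparency.types false

universe u

open CategoryTheory CategoryTheory.Limits AlgebraicGeometry TopologicalSpace Opposite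
open Groth.Agent.H23.PicMul

noncomputable section

namespace Groth.Agent.PunctAlg

open Groth.Agent

variable {A : Type u} [CommRing A] [IsNoetherianRing A] [IsLocalRing A]

/-- Primes whose closure meets the divisor only at the closed point are incomparable. -/
theorem eq_of_le_of_forall (f : A) (hf : f ∈ IsLocalRing.maximalIdeal A) (q q' : Ideal A) [q.IsPrime] [q'.IsPrime]
    (h : q ≤ q') (hne : q' ≠ IsLocalRing.maximalIdeal A)
    (hmin : ∀ r : Ideal A, r.IsPrime → q ≤ r → f ∈ r → r = IsLocalRing.maximalIdeal A) : q = q' := by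
  by_contra hqq
  let m := IsLocalRing.maximalIdeal A
  let π := Ideal.Quotient.mk q
  have hπ : Function.Surjective π := Ideal.Quotient.mk_surjective
  have hker : RingHom.ker π = q := Ideal.mk_ker
  have hle' : q' ≤ m := IsLocalRing.le_maximalIdeal (Ideal.IsPrime.ne_top ‹_›)
  haveI : (q'.map π).IsPrime := Ideal.map_isPrime_of_surjective hπ (hker.le.trans h)
  haveI : (m.map π).IsPrime := Ideal.map_isPrime_of_surjective hπ (hker.le.trans (h.trans hle'))
  have hcm : ∀ {p : Ideal A}, q ≤ p → (p.map π).comap π = p := fun {p} hp => by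
    rw [Ideal.comap_map_of_surjective π hπ, ← RingHom.ker_eq_comap_bot, hker, sup_eq_left.2 hp]
  have h1 : m.map π ∈ (Ideal.span {π f}).minimalPrimes := by
    refine ⟨⟨inferInstance, (Ideal.span_singleton_le_iff_mem _).2 (Ideal.mem_map_of_mem _ hf)⟩, fun r ⟨hr, hfr⟩ hrm => ?_⟩
    have hq : q ≤ r.comap π := hker.symm.le.trans (Ideal.comap_mono bot_le)
    have := hmin _ (hr.comap π) hq (show π f ∈ r from (Ideal.span_singleton_le_iff_mem r).1 hfr)
    rw [← Ideal.map_comap_of_surjective π hπ r]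
    exact Ideal.map_mono this.ge
  haveI : IsDomain (A ⧸ q) := Ideal.Quotient.isDomain q
  have h2 : q'.map π < m.map π := lt_of_le_of_ne (Ideal.map_mono hle') fun e => hne (by
    rw [← hcm h, e, hcm (h.trans hle')])
  have h3 : (q'.map π).height ≠ 0 := fun e => hqq (by
    rw [← hcm h, Ideal.height_eq_zero_iff_eq_bot.1 e, ← RingHom.ker_eq_comap_bot, hker])
  have h4 : (m.map π).height ≤ 1 := Ideal.height_le_one_of_isPrincipal_of_mem_minimalPrimes (Ideal.span {π f}) _ h1
  have h5 := Ideal.height_strict_mono_of_isPrime h2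
  have h6 : (q'.map π).height < 1 := lt_of_lt_of_le h5 h4
  exact h3 (ENat.lt_one_iff_eq_zero.1 h6)

/-- Invertible modules on the punctured divisor extend to the punctured spectrum. -/
theorem picPullbackSurjective_restrict (f : A) (hf : f ∈ IsLocalRing.maximalIdeal A)
    [IsAdicComplete (Ideal.span {f}) A] (hreg : IsSMulRegular A f)
    (h₁ : Module.Finite A (LocCoh.H (IsLocalRing.maximalIdeal A) 1 (A ⧸ Ideal.span {f})))
    (h₂ : Module.Finite A (LocCoh.H (IsLocalRing.maximalIdeal A) 2 (A ⧸ Ideal.span {f})))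
    (h₃ : Subsingleton (LocCoh.H (IsLocalRing.maximalIdeal A) 3 (A ⧸ Ideal.span {f})))
    (h₅ : ∀ (q : Ideal A) [q.IsPrime], f ∉ q → (∀ (q' : Ideal A), q'.IsPrime → q ≤ q' → f ∉ q' → q' = q) →
      Formal2.PicTrivial (↑(FEt.puncturedSpec (Localization.AtPrime q)) : Scheme.{u})) :
    Formal2.PicPullbackSurjective (Formal2.specQuotMap A f ∣_ FEt.puncturedSpec A) := by
  intro L₀ hL₀
  obtain ⟨U', hle, hpre, L, hL, ⟨eL⟩⟩ := exists_nhd_extension (IsLocalRing.maximalIdeal A) f hreg h₁ h₂ h₃ _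
    (puncturedSpec_eq_pU A) L₀ hL₀
  haveI : IsNoetherianRing (CommRingCat.of A) := inferInstanceAs (IsNoetherianRing A)
  haveI : IsNoetherian (Spec (CommRingCat.of A)) := inferInstance
  let U := FEt.puncturedSpec A
  have hdiv : ∀ x : PrimeSpectrum A, f ∈ x.asIdeal → x.asIdeal ≠ IsLocalRing.maximalIdeal A →
      (x : Spec (CommRingCat.of A)) ∈ U' := fun x hfx hne => by
    have hx : (x : Spec (CommRingCat.of A)) ∈ U := fun h => hne (congrArg PrimeSpectrum.asIdeal h)
    have hker : RingHom.ker (Ideal.Quotient.mk (Ideal.span {f})) ≤ x.asIdeal := by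
      rw [Ideal.mk_ker, Ideal.span_singleton_le_iff_mem]; exact hfx
    let z : PrimeSpectrum (A ⧸ Ideal.span {f}) :=
      ⟨x.asIdeal.map (Ideal.Quotient.mk _), Ideal.map_isPrime_of_surjective Ideal.Quotient.mk_surjective hker⟩
    have hz : Formal2.specQuotMap A f z = x := PrimeSpectrum.ext (by
      show (x.asIdeal.map (Ideal.Quotient.mk _)).comap (Ideal.Quotient.mk _) = x.asIdeal
      rw [Ideal.comap_map_of_surjective _ Ideal.Quotient.mk_surjective, ← RingHom.ker_eq_comap_bot, sup_eq_left.2 hker])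
    rw [← hz]
    exact hpre (show Formal2.specQuotMap A f z ∈ U by rw [hz]; exact hx)
  obtain ⟨b, hb⟩ := (PrimeSpectrum.isClosed_iff_zeroLocus_ideal (R := A) ((SetLike.coe U' : Set (Spec (CommRingCat.of A)))ᶜ)).1
    U'.isOpen.isClosed_compl
  have hU' : U' = pU b := by
    ext x
    show x ∈ (SetLike.coe U' : Set (Spec (CommRingCat.of A))) ↔ x ∈ (PrimeSpectrum.zeroLocus (R := A) (b : Set A))ᶜ
    rw [← hb, compl_compl]
  subst hU'
  -- primes of the punctured spectrum outside
  have hgen : ∀ q x : PrimeSpectrum A, q.asIdeal ≤ x.asIdeal → (x : Spec (CommRingCat.of A)) ∈ pU b →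
      (q : Spec (CommRingCat.of A)) ∈ pU b := fun q x hqx hx hq => hx (hq.trans hqx)
  let Z₀ : Set (PrimeSpectrum A) := {q | (q : Spec (CommRingCat.of A)) ∈ U ∧ (q : Spec (CommRingCat.of A)) ∉ pU b}
  have hanti : ∀ q ∈ Z₀, ∀ q' : PrimeSpectrum A, q.asIdeal ≤ q'.asIdeal → (q' : Spec (CommRingCat.of A)) ∈ U → q = q' := by
    intro q hq q' hqq' hq'
    refine PrimeSpectrum.ext (eq_of_le_of_forall f hf q.asIdeal q'.asIdeal hqq'
      (fun h => hq' (PrimeSpectrum.ext h)) fun r hr hqr hfr => ?_)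
    by_contra hne
    exact hq.2 (hgen q ⟨r, hr⟩ hqr (hdiv ⟨r, hr⟩ hfr hne))
  have hbelow : ∀ q ∈ Z₀, ∀ x : PrimeSpectrum A, x.asIdeal ≤ q.asIdeal → x ≠ q →
      (x : Spec (CommRingCat.of A)) ∈ pU b := fun q hq x hxq hne => by
    by_contra hx
    have hxU : (x : Spec (CommRingCat.of A)) ∈ U := fun h => hq.1 (PrimeSpectrum.ext (le_antisymm
      (IsLocalRing.le_maximalIdeal q.2.ne_top)
      (by rw [show x.asIdeal = IsLocalRing.maximalIdeal A from congrArg PrimeSpectrum.asIdeal h] at hxq; exact hxq)))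
    exact hne (hanti x ⟨hxU, hx⟩ q hxq hq.1)
  have hfin : Z₀.Finite := by
    refine Set.Finite.subset (Set.Finite.preimage (fun a _ b _ h => PrimeSpectrum.ext h)
      (Ideal.finite_minimalPrimes_of_isNoetherianRing A b)) fun q hq => ?_
    have hbq : b ≤ q.asIdeal := not_not.1 hq.2
    refine ⟨⟨q.2, hbq⟩, fun r ⟨hr, hbr⟩ hrq => ?_⟩
    by_contra h
    exact hbelow q hq ⟨r, hr⟩ hrq (fun e => h (le_of_eq (congrArg PrimeSpectrum.asIdeal e).symm)) hbr
  obtain ⟨N, hN, ⟨eN⟩⟩ := exists_PhiU b L (CurveDeg.isCoh_of_isInvertible hL)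
  haveI := hN
  obtain ⟨P, hP, ⟨eP⟩, hPW, hPZ⟩ := exists_rk1_extension (pU b) hfin.toFinset
    (fun q hq x hqx hx => (hfin.mem_toFinset.1 hq).2 (hgen q x hqx hx))
    (fun q hq q' hq' h => hanti q (hfin.mem_toFinset.1 hq) q' h (hfin.mem_toFinset.1 hq').1)
    (fun q hq => hbelow q (hfin.mem_toFinset.1 hq))
    (fun q hq => by
      obtain ⟨hqU, hqb⟩ := hfin.mem_toFinset.1 hq
      refine h₅ q.asIdeal (fun hfq => hqb (hdiv q hfq fun h => hqU (PrimeSpectrum.ext h))) fun q' hq' hle' hfq' => ?_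
      exact (congrArg PrimeSpectrum.asIdeal (hanti q ⟨hqU, hqb⟩ ⟨q', hq'⟩ hle' fun h => hfq' (by
        rw [show q' = IsLocalRing.maximalIdeal A from congrArg PrimeSpectrum.asIdeal h]; exact hf))).symm)
    N (H23.PicMul.isInvertible_of_iso eN.symm hL)
  haveI := hP
  have hPU : ∀ x : U.toScheme, Rk1 P (U.ι x).asIdeal := fun x => by
    by_cases hx : U.ι x ∈ pU b
    · exact hPW ⟨U.ι x, hx⟩
    · exact hPZ (U.ι x) (hfin.mem_toFinset.2 ⟨x.2, hx⟩)
  refine ⟨phi U P, isInvertible_of_rk1 U P hPU, cl_eq_iff.1 ?_⟩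
  let w : (↑(pU b) : Scheme.{u}) ⟶ U.toScheme := (Spec (CommRingCat.of A)).homOfLE hle
  let T := tilde (R := CommRingCat.of A) P
  have hw : (Formal2.specQuotMap A f).resLE (pU b) _ hpre ≫ w = Formal2.specQuotMap A f ∣_ FEt.puncturedSpec A := by
    rw [← cancel_mono U.ι, Category.assoc, Scheme.homOfLE_ι, Scheme.Hom.resLE_comp_ι, morphismRestrict_ι]
  have h1 : PicF.pullCl w (PicF.cl (phi U P)) = PicF.cl L := by
    rw [show phi U P = T.restrict U.ι from rfl, ParaExt.cl_restrict', PicClLib.pullCl_comp, Scheme.homOfLE_ι,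
      ← ParaExt.cl_restrict']
    exact cl_eq_iff.2 ⟨eP ≪≫ eN⟩
  show PicF.pullCl (Formal2.specQuotMap A f ∣_ FEt.puncturedSpec A) (PicF.cl (phi U P)) = PicF.cl L₀
  rw [← hw, ← PicClLib.pullCl_comp, h1]
  exact cl_eq_iff.2 ⟨eL⟩

end Groth.Agent.PunctAlg
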