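import Groth.Agent.PunctAlg.LocalPic
import Groth.Agent.PunctAlg.PicInj
import Groth.Agent.LC.PrimeSel

/-!
# Surjectivity onto the punctured divisor, with parafactorial closed points outside it
-/

set_option autoImplicit false
set_option linter.style.haveILetI false
set_option linter.unusedSectionVars false
set_option backward.isDefEq.respectTransparency false
set_option backward.isDefEq.respectTransparency.types false

universe u

open CategoryTheory CategoryTheory.Limits AlgebraicGeometry TopologicalSpace Opposite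
open Groth.Agent.H23.PicMul

noncomputable section

namespace Groth.Agent.PunctAlg

open Groth.Agent

variable {A : Type u} [CommRing A] [IsNoetherianRing A] [IsLocalRing A]

/-- A prime maximal among those avoiding `t` has one dimensional quotient. -/
theorem ringKrullDim_quot_eq_one (t : A) (ht : t ∈ IsLocalRing.maximalIdeal A) (q : Ideal A) [hq : q.IsPrime]
    (htq : t ∉ q) (hmax : ∀ q' : Ideal A, q'.IsPrime → q ≤ q' → t ∉ q' → q' = q) :
    ringKrullDim (A ⧸ q) = 1 := by
  let m := IsLocalRing.maximalIdeal A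
  have hqm : q < m := lt_of_le_of_ne (IsLocalRing.le_maximalIdeal hq.ne_top) fun h => htq (h ▸ ht)
  have hmap : m.map (Ideal.Quotient.mk q) = IsLocalRing.maximalIdeal (A ⧸ q) :=
    IsLocalRing.map_maximalIdeal_of_surjective _ Ideal.Quotient.mk_surjective
  rw [← IsLocalRing.maximalIdeal_height_eq_ringKrullDim]
  have hle : (IsLocalRing.maximalIdeal (A ⧸ q)).height ≤ 1 := by
    by_contra h
    rw [not_le, ← hmap] at h
    obtain ⟨r, hr, hqr, -, htr⟩ := LC.exists_prime_between q m hqm h ht htq
    exact hqr.ne (hmax r hr hqr.le htr).symm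
  have hge : 1 ≤ (IsLocalRing.maximalIdeal (A ⧸ q)).height := by
    have hb : (⊥ : Ideal (A ⧸ q)) < IsLocalRing.maximalIdeal (A ⧸ q) := by
      rw [bot_lt_iff_ne_bot, ← hmap, Ne, Ideal.map_eq_bot_iff_le_ker, Ideal.mk_ker]
      exact not_le_of_gt hqm
    exact ENat.one_le_iff_ne_zero.2 (ne_bot_of_gt (Ideal.height_strict_mono_of_isPrime hb))
  rw [le_antisymm hle hge]
  rfl

/-- Every invertible module on the punctured divisor comes from the punctured spectrum. -/
theorem picPullbackSurjective_para (t : A) (ht : t ∈ IsLocalRing.maximalIdeal A) (hreg : IsSMulRegular A t)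
    [IsAdicComplete (Ideal.span {t}) A] [IsLocalRing (A ⧸ Ideal.span {t})]
    (hd : (4 : ℕ∞) ≤ LocCoh.depth (A ⧸ Ideal.span {t}) (A ⧸ Ideal.span {t}))
    (he : ∀ p : PrimeSpectrum A, t ∉ p.asIdeal → ringKrullDim (A ⧸ p.asIdeal) = 1 →
      ParaF.IsParafactorialLocalRing (Localization.AtPrime p.asIdeal)) :
    Formal2.PicPullbackSurjective (Formal2.specQuotMap A t ∣_ FEt.puncturedSpec A) := by
  have hd' : ((4 : ℕ) : ℕ∞) ≤ LocCoh.depth A (A ⧸ Ideal.span {t}) := (ParaRel.depth_quot (Ideal.span {t})).symm ▸ hd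
  have hv : ∀ i < 4, ParaRel.HVan (A := A) i (A ⧸ Ideal.span {t}) := fun i hi => ParaRel.hvan_of_depth hd' hi
  haveI h1 : Subsingleton (LocCoh.H (IsLocalRing.maximalIdeal A) 1 (A ⧸ Ideal.span {t})) := hv 1 (by omega)
  haveI h2 : Subsingleton (LocCoh.H (IsLocalRing.maximalIdeal A) 2 (A ⧸ Ideal.span {t})) := hv 2 (by omega)
  exact picPullbackSurjective_restrict t ht hreg inferInstance inferInstance (hv 3 (by omega)) fun q hq htq hmax =>
    ((ParaFX.isParafactorialLocalRing_iff _).1
      (he ⟨q, hq⟩ htq (ringKrullDim_quot_eq_one (hq := hq) t ht q htq hmax))).2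

/-- The same along the closed subscheme of the punctured spectrum cut out by `t`. -/
theorem picPullbackSurjective_comap (t : A)
    (h : Formal2.PicPullbackSurjective (Formal2.specQuotMap A t ∣_ FEt.puncturedSpec A)) :
    Formal2.PicPullbackSurjective (((Spec.map (CommRingCat.ofHom (Ideal.Quotient.mk (Ideal.span {t})))).ker.comap
      (FEt.puncturedSpec A).ι)).subschemeι := by
  intro N hN
  let σ := Formal2.specQuotMap A t
  haveI : IsClosedImmersion σ := IsClosedImmersion.spec_of_surjective _ Ideal.Quotient.mk_surjective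
  let i := σ ∣_ FEt.puncturedSpec A
  haveI : IsClosedImmersion i := inferInstance
  let D := σ.ker.comap (FEt.puncturedSpec A).ι
  have hker : i.ker = D := FComplLib.ker_of_isPullback (isPullback_morphismRestrict σ (FEt.puncturedSpec A))
  let e' : i.ker.subscheme ⟶ D.subscheme := Scheme.IdealSheafData.inclusion hker.ge
  let e'' : D.subscheme ⟶ i.ker.subscheme := Scheme.IdealSheafData.inclusion hker.le
  haveI : IsIso e' := ⟨e'', (cancel_mono i.ker.subschemeι).1 (by simp [e', e'']),
    (cancel_mono D.subschemeι).1 (by simp [e', e''])⟩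
  let θ := i.toImage ≫ e'
  have hθ : θ ≫ D.subschemeι = i := by
    show (i.toImage ≫ e') ≫ D.subschemeι = i
    rw [Category.assoc, Scheme.IdealSheafData.inclusion_subschemeι]
    exact Scheme.Hom.toImage_imageι i
  obtain ⟨L, hL, ⟨e⟩⟩ := h ((Scheme.Modules.pullback θ).obj N) (PicClLib.isInvertible_pullback θ hN)
  refine ⟨L, hL, cl_eq_iff.1 ?_⟩
  show PicF.pullCl D.subschemeι (PicF.cl L) = PicF.cl N
  have h1 : PicF.pullCl θ (PicF.pullCl D.subschemeι (PicF.cl L)) = PicF.pullCl θ (PicF.cl N) := by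
    rw [PicClLib.pullCl_comp, hθ]
    exact cl_eq_iff.2 ⟨e⟩
  have h2 := congrArg (PicF.pullCl (inv θ)) h1
  rw [PicClLib.pullCl_comp (inv θ) θ, PicClLib.pullCl_comp (inv θ) θ, IsIso.inv_hom_id, PicClLib.pullCl_id, PicClLib.pullCl_id] at h2
  exact h2

/-- If invertible modules extend from the divisor, triviality descends to it. -/
theorem picTrivial_quot (t : A) [IsLocalRing (A ⧸ Ideal.span {t})]
    (h : Formal2.PicPullbackSurjective (Formal2.specQuotMap A t ∣_ FEt.puncturedSpec A))
    (hA : ParaF.PicTrivial (FEt.puncturedSpec A : Scheme.{u})) :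
    ParaF.PicTrivial (FEt.puncturedSpec (A ⧸ Ideal.span {t}) : Scheme.{u}) := by
  let σ := Formal2.specQuotMap A t
  have hpre : σ ⁻¹ᵁ FEt.puncturedSpec A =
      (FEt.puncturedSpec (A ⧸ Ideal.span {t}) : (Spec (CommRingCat.of (A ⧸ Ideal.span {t}))).Opens) := by
    ext x
    show σ x ∈ ({IsLocalRing.closedPoint A}ᶜ : Set (PrimeSpectrum A)) ↔
      x ∈ ({IsLocalRing.closedPoint (A ⧸ Ideal.span {t})}ᶜ : Set (PrimeSpectrum (A ⧸ Ideal.span {t})))
    refine not_congr ?_
    rw [Set.mem_singleton_iff, Set.mem_singleton_iff]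
    constructor
    · intro hx
      exact PrimeSpectrum.ext (Ideal.comap_injective_of_surjective (Ideal.Quotient.mk (Ideal.span {t}))
        Ideal.Quotient.mk_surjective
        ((congrArg PrimeSpectrum.asIdeal hx).trans (ParaRel.comap_maximalIdeal (Ideal.span {t})).symm))
    · rintro rfl
      exact PrimeSpectrum.ext (ParaRel.comap_maximalIdeal (Ideal.span {t}))
  have key : ParaF.PicTrivial ((σ ⁻¹ᵁ FEt.puncturedSpec A : (Spec _).Opens) : Scheme.{u}) := fun N hN => by
    obtain ⟨L, hL, ⟨e⟩⟩ := h N hN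
    obtain ⟨eL⟩ := hA L hL
    exact ⟨e.symm ≪≫ (Scheme.Modules.pullback _).mapIso eL ≪≫
      (PicClLib.nonempty_pullback_structureModule _).some⟩
  rwa [hpre] at key

end Groth.Agent.PunctAlg
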