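import Mathlib

/-!
# Modules of rank one at a set of primes, elementwise
-/

set_option autoImplicit false
set_option linter.style.haveILetI false
set_option linter.unusedSectionVars false

universe u

noncomputable section

namespace Groth.Agent.PunctAlg

variable {A : Type u} [CommRing A]

/-- `M` is free of rank one at the prime `p`. -/
def Rk1 (M : Type u) [AddCommGroup M] [Module A M] (p : Ideal A) : Prop :=
  ∃ e : M, (∀ x : M, ∃ s ∉ p, ∃ a : A, s • x = a • e) ∧ ∀ a : A, a • e = 0 → ∃ s ∉ p, s * a = 0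

/-- The linear map is bijective at the prime `p`. -/
def BijAt {M N : Type u} [AddCommGroup M] [Module A M] [AddCommGroup N] [Module A N] (f : M →ₗ[A] N)
    (p : Ideal A) : Prop :=
  (∀ x, f x = 0 → ∃ s ∉ p, s • x = 0) ∧ ∀ y, ∃ s ∉ p, s • y ∈ LinearMap.range f

theorem rk1_of_bijAt {M N : Type u} [AddCommGroup M] [Module A M] [AddCommGroup N] [Module A N]
    (f : M →ₗ[A] N) {p : Ideal A} [hp : p.IsPrime] (hf : BijAt f p) (h : Rk1 M p) : Rk1 N p := by
  obtain ⟨e, he, ha⟩ := h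
  refine ⟨f e, fun y => ?_, fun a hae => ?_⟩
  · obtain ⟨s, hs, x, hx⟩ := hf.2 y
    obtain ⟨s', hs', a, hsa⟩ := he x
    exact ⟨s' * s, fun hm => (hp.mem_or_mem hm).elim hs' hs, a, by rw [mul_smul, ← hx, ← map_smul, hsa, map_smul]⟩
  · rw [← map_smul] at hae
    obtain ⟨s, hs, hsa⟩ := hf.1 _ hae
    rw [smul_smul] at hsa
    obtain ⟨s', hs', hsa'⟩ := ha _ hsa
    exact ⟨s' * s, fun hm => (hp.mem_or_mem hm).elim hs' hs, by rw [mul_assoc]; exact hsa'⟩

theorem rk1_of_bijAt' {M N : Type u} [AddCommGroup M] [Module A M] [AddCommGroup N] [Module A N]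
    (f : M →ₗ[A] N) {p : Ideal A} [hp : p.IsPrime] (hf : BijAt f p) (h : Rk1 N p) : Rk1 M p := by
  obtain ⟨e, he, ha⟩ := h
  obtain ⟨s, hs, x, hx⟩ := hf.2 e
  refine ⟨x, fun y => ?_, fun a hax => ?_⟩
  · obtain ⟨s', hs', a, hsa⟩ := he (f y)
    have h0 : f ((s * s') • y - a • x) = 0 := by
      rw [map_sub, map_smul, map_smul, hx, mul_smul, hsa, smul_comm, sub_self]
    obtain ⟨r, hr, hr0⟩ := hf.1 _ h0
    refine ⟨r * (s * s'), fun hm => (hp.mem_or_mem hm).elim hr fun h2 => (hp.mem_or_mem h2).elim hs hs', r * a, ?_⟩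
    rwa [smul_sub, sub_eq_zero, smul_smul, smul_smul] at hr0
  · have h1 : (a * s) • e = 0 := by rw [mul_smul, ← hx, ← map_smul, hax, map_zero]
    obtain ⟨r, hr, hr0⟩ := ha _ h1
    exact ⟨r * s, fun hm => (hp.mem_or_mem hm).elim hr hs, by rw [← hr0]; ring⟩

theorem exists_uniform {M : Type u} [AddCommGroup M] [Module A M] [Module.Finite A M]
    {p : Ideal A} (hp : p.IsPrime) (N : Submodule A M) (h : ∀ x, ∃ s ∉ p, s • x ∈ N) :
    ∃ s ∉ p, ∀ x, s • x ∈ N := by
  classical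
  obtain ⟨G, hG⟩ := Module.Finite.fg_top (R := A) (M := M)
  choose s hs hsx using h
  refine ⟨∏ x ∈ G, s x, fun hc => ?_, fun x => ?_⟩
  · obtain ⟨x, -, hx⟩ := hp.prod_mem_iff.1 hc
    exact hs x hx
  · have hx : x ∈ Submodule.span A (G : Set M) := hG ▸ Submodule.mem_top
    induction hx using Submodule.span_induction with
    | mem x hx =>
      obtain ⟨c, hc⟩ := Finset.dvd_prod_of_mem s hx
      rw [hc, mul_comm, mul_smul]
      exact N.smul_mem c (hsx x)
    | zero => rw [smul_zero]; exact N.zero_mem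
    | add a b _ _ ha hb => rw [smul_add]; exact N.add_mem ha hb
    | smul c a _ ha => rw [smul_comm]; exact N.smul_mem c ha

variable [IsNoetherianRing A]

/-- A high power of an ideal meets a submodule of torsion elements trivially. -/
theorem exists_pow_inf_eq_bot {M : Type u} [AddCommGroup M] [Module A M] [Module.Finite A M] (a : Ideal A)
    (T : Submodule A M) (hT : ∀ x ∈ T, ∃ n : ℕ, ∀ b ∈ a ^ n, b • x = 0) :
    ∃ k : ℕ, ∀ j ≥ k, (a ^ j • (⊤ : Submodule A M)) ⊓ T = ⊥ := by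
  classical
  haveI : Module.Finite A T := Module.Finite.iff_fg.2 (IsNoetherian.noetherian T)
  obtain ⟨G, hG⟩ := Module.Finite.fg_top (R := A) (M := T)
  choose n hn using fun x : T => hT x.1 x.2
  have hkill : a ^ (G.sup n) • T = ⊥ := by
    rw [eq_bot_iff, Submodule.smul_le]
    intro b hb x hx
    have : (⊤ : Submodule A T) ≤ LinearMap.ker (LinearMap.lsmul A T b) := by
      rw [← hG, Submodule.span_le]
      intro y hy
      exact Subtype.ext (hn y b (Ideal.pow_le_pow_right (Finset.le_sup (f := n) hy) hb))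
    have h2 := congrArg Subtype.val (this (Submodule.mem_top (x := ⟨x, hx⟩)))
    exact h2
  obtain ⟨k, hk⟩ := Ideal.exists_pow_inf_eq_pow_smul a T
  refine ⟨k + G.sup n, fun j hj => ?_⟩
  rw [hk j (by omega), eq_bot_iff, ← hkill]
  exact Submodule.smul_mono (Ideal.pow_le_pow_right (show G.sup n ≤ j - k by omega)) inf_le_right

/-- Modify a module at one prime, given a map from a power of the prime bijective below it. -/
theorem exists_extend_at {M : Type u} [AddCommGroup M] [Module A M] [Module.Finite A M] (q : Ideal A) [hq : q.IsPrime]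
    (k : ℕ) (F : (q ^ k : Ideal A) →ₗ[A] M)
    (hinj : ∀ a : (q ^ k : Ideal A), F a = 0 → ∃ s ∉ q, s * (a : A) = 0)
    (hsurj : ∀ x : Ideal A, x.IsPrime → x ≤ q → x ≠ q → ∀ y : M, ∃ s ∉ x, s • y ∈ LinearMap.range F) :
    ∃ (Q P : Type u) (_ : AddCommGroup Q) (_ : Module A Q) (_ : AddCommGroup P) (_ : Module A P)
      (_ : Module.Finite A Q) (_ : Module.Finite A P) (f : M →ₗ[A] Q) (g : P →ₗ[A] Q),
      (∀ x : Ideal A, x.IsPrime → ¬ q ≤ x → BijAt f x ∧ BijAt g x) ∧ Rk1 P q := by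
  classical
  let D : (q ^ k : Ideal A) →ₗ[A] A × M := LinearMap.prod (q ^ k : Ideal A).subtype (-F)
  let W : Submodule A (A × M) := LinearMap.range D
  let f : M →ₗ[A] (A × M) ⧸ W := W.mkQ.comp (LinearMap.inr A A M)
  let s₁ : (A × M) ⧸ W := W.mkQ (1, 0)
  have hrel : ∀ a : (q ^ k : Ideal A), f (F a) = (a : A) • s₁ := fun a => by
    show W.mkQ (0, F a) = (a : A) • W.mkQ (1, 0)
    rw [← map_smul, Prod.smul_mk, smul_eq_mul, mul_one, smul_zero, Submodule.mkQ_apply, Submodule.mkQ_apply,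
      Submodule.Quotient.eq]
    exact ⟨-a, by simp [D]⟩
  -- the cokernel of `F` is killed by a power of `q` near `q`
  have hker : ∃ j : ℕ, ∃ g₀ : A, g₀ ∉ q ∧ ∀ c ∈ q ^ j, ∀ y : M, (g₀ * c) • y ∈ LinearMap.range F := by
    let K : Ideal A := (LinearMap.range F).colon (Set.univ : Set M)
    let S := Localization.AtPrime q
    have hle : q.map (algebraMap A S) ≤ (K.map (algebraMap A S)).radical := by
      rw [Ideal.radical_eq_sInf]
      refine le_sInf fun P ⟨hKP, hP⟩ => ?_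
      have hxq : P.comap (algebraMap A S) ≤ q :=
        (IsLocalization.AtPrime.orderIsoOfPrime S q ⟨P, hP⟩).2.2
      by_cases hx : P.comap (algebraMap A S) = q
      · rw [Ideal.map_le_iff_le_comap, hx]
      · obtain ⟨r, hr, hry⟩ := exists_uniform (M := M) (hP.comap _) (LinearMap.range F)
          (hsurj _ (hP.comap _) hxq hx)
        exact absurd (Ideal.map_le_iff_le_comap.1 hKP (Submodule.mem_colon.2 fun y _ => hry y)) hr
    obtain ⟨j, hj⟩ := Ideal.exists_pow_le_of_le_radical_of_fg hle (IsNoetherian.noetherian _)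
    rw [← Ideal.map_pow] at hj
    obtain ⟨G, hG⟩ := IsNoetherian.noetherian (q ^ j : Ideal A)
    have h1 : ∀ c ∈ q ^ j, ∃ g ∉ q, g * c ∈ K := fun c hc => by
      obtain ⟨⟨⟨b, hb⟩, g, hg⟩, e⟩ := (IsLocalization.mem_map_algebraMap_iff q.primeCompl S).1
        (hj (Ideal.mem_map_of_mem _ hc))
      rw [← map_mul, IsLocalization.eq_iff_exists q.primeCompl S] at e
      obtain ⟨⟨w, hw⟩, e⟩ := e
      exact ⟨w * g, fun hm => (hq.mem_or_mem hm).elim hw hg, by
        rw [show w * g * c = w * (c * g) by ring]; exact e ▸ K.mul_mem_left _ hb⟩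
    obtain ⟨g₀, hg₀, hg₀'⟩ := exists_uniform (M := (q ^ j : Ideal A)) hq (Submodule.comap (q ^ j : Ideal A).subtype K)
      fun c => by obtain ⟨g, hg, hgc⟩ := h1 c.1 c.2; exact ⟨g, hg, hgc⟩
    exact ⟨j, g₀, hg₀, fun c hc y => Submodule.mem_colon.1 (hg₀' ⟨c, hc⟩) y trivial⟩
  obtain ⟨j, g₀, hg₀, hg₀'⟩ := hker
  let P : Submodule A ((A × M) ⧸ W) := Submodule.span A {s₁} ⊔ q ^ j • ⊤
  have hs₁ : s₁ ∈ P := Submodule.mem_sup_left (Submodule.mem_span_singleton_self _)
  haveI : Module.Finite A P := Module.Finite.iff_fg.2 (IsNoetherian.noetherian P)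
  refine ⟨(A × M) ⧸ W, P, inferInstance, inferInstance, inferInstance, inferInstance, inferInstance, inferInstance,
    f, P.subtype, fun x hx hqx => ⟨⟨fun y hy => ?_, fun z => ?_⟩, ⟨fun y hy => ?_, fun z => ?_⟩⟩, ?_⟩
  · obtain ⟨a, ha⟩ := (Submodule.Quotient.mk_eq_zero W).1 hy
    obtain ⟨b, hb, hbx⟩ := SetLike.not_le_iff_exists.1 hqx
    refine ⟨1, fun h => hx.ne_top ((Ideal.eq_top_iff_one _).2 h), ?_⟩
    have h1 : (a : A) = 0 := congrArg Prod.fst ha
    have h2 : -F a = y := congrArg Prod.snd ha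
    rw [one_smul, ← h2, show a = 0 from Subtype.ext h1, map_zero, neg_zero]
  · obtain ⟨⟨a, m⟩, rfl⟩ := Submodule.mkQ_surjective W z
    obtain ⟨b, hb, hbx⟩ := SetLike.not_le_iff_exists.1 hqx
    have hbk : b ^ k ∉ x := fun h => hbx (hx.mem_of_pow_mem k h)
    have hmem : b ^ k * a ∈ q ^ k := Ideal.mul_mem_right _ _ (Ideal.pow_mem_pow hb k)
    refine ⟨b ^ k, hbk, F ⟨b ^ k * a, hmem⟩ + b ^ k • m, ?_⟩
    rw [map_add, hrel, map_smul]
    show (b ^ k * a) • W.mkQ (1, 0) + b ^ k • W.mkQ (0, m) = b ^ k • W.mkQ (a, m)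
    rw [← map_smul, ← map_smul, ← map_smul, ← map_add]
    simp
  · exact ⟨1, fun h => hx.ne_top ((Ideal.eq_top_iff_one _).2 h), by rw [one_smul]; exact Subtype.ext hy⟩
  · obtain ⟨b, hb, hbx⟩ := SetLike.not_le_iff_exists.1 hqx
    exact ⟨b ^ j, fun h => hbx (hx.mem_of_pow_mem j h),
      ⟨b ^ j • z, Submodule.mem_sup_right (Submodule.smul_mem_smul (Ideal.pow_mem_pow hb j) Submodule.mem_top)⟩, rfl⟩
  refine ⟨⟨s₁, hs₁⟩, fun y => ?_, fun a ha => ?_⟩
  · obtain ⟨y, hy⟩ := y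
    obtain ⟨u, hu, v, hv, rfl⟩ := Submodule.mem_sup.1 hy
    obtain ⟨c, rfl⟩ := Submodule.mem_span_singleton.1 hu
    have h1 : g₀ • v ∈ Submodule.span A {s₁} := by
      refine Submodule.smul_induction_on hv (fun b hb z _ => ?_) fun v w hv hw => by
        rw [smul_add]; exact add_mem hv hw
      obtain ⟨⟨a, m⟩, rfl⟩ := Submodule.mkQ_surjective W z
      obtain ⟨a', ha'⟩ := hg₀' b hb m
      refine Submodule.mem_span_singleton.2 ⟨g₀ * b * a + a', ?_⟩
      rw [add_smul, smul_smul, ← hrel, ha']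
      show (g₀ * b * a) • W.mkQ (1, 0) + W.mkQ (0, (g₀ * b) • m) = (g₀ * b) • W.mkQ (a, m)
      rw [← map_smul, ← map_smul, ← map_add]
      simp
    obtain ⟨d, hd⟩ := Submodule.mem_span_singleton.1 h1
    refine ⟨g₀, hg₀, g₀ * c + d, Subtype.ext ?_⟩
    show g₀ • (c • s₁ + v) = (g₀ * c + d) • s₁
    rw [smul_add, add_smul, smul_smul, hd]
  · have h0 : a • s₁ = 0 := congrArg Subtype.val ha
    rw [← map_smul, Submodule.mkQ_apply, Submodule.Quotient.mk_eq_zero] at h0
    obtain ⟨b, hb⟩ := h0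
    have h1 : (b : A) = a := by simpa [D] using congrArg Prod.fst hb
    have h2 : F b = 0 := by simpa [D] using congrArg Prod.snd hb
    obtain ⟨w, hw, hwb⟩ := hinj b h2
    exact ⟨w, hw, by rw [← h1]; exact hwb⟩

end Groth.Agent.PunctAlg
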