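import Groth.Agent.PunctAlg.Kill
import Groth.Agent.PunctAlg.RankOne
import Groth.Agent.PunctAlg.QuotIso
import Groth.Agent.ParaRel.Geom

/-!
# Invertible sheaves on an open of an affine scheme and rank one modules
-/

set_option autoImplicit false
set_option linter.style.haveILetI false
set_option linter.unusedSectionVars false
set_option backward.isDefEq.respectTransparency false
set_option backward.isDefEq.respectTransparency.types false

universe u

open CategoryTheory CategoryTheory.Limits AlgebraicGeometry TopologicalSpace Opposite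

noncomputable section

namespace Groth.Agent.PunctAlg

open Groth.Agent

variable {A : Type u} [CommRing A]

/-- Germs of sections. -/
abbrev secGerm (U : (Spec (CommRingCat.of A)).Opens) (M : U.toScheme.Modules) (x : U.toScheme)
    (s : (secF U).obj M) : (DerSch.stalkFunctor U.toScheme x).obj M :=
  M.presheaf.germ ⊤ x trivial (show Γ(M, ⊤) from s)

theorem secGerm_smul (U : (Spec (CommRingCat.of A)).Opens) (M : U.toScheme.Modules) (x : U.toScheme) (a : A)
    (s : (secF U).obj M) : secGerm U M x (a • s) = germA U x a • secGerm U M x s := by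
  rw [← secF_smul, ← stalk_smulMod]
  exact (DerSch.stalkFunctor_map_germ x (Formal.smulMod A M a) ⊤ trivial (show Γ(M, ⊤) from s)).symm

theorem germM_natural (U : (Spec (CommRingCat.of A)).Opens) {N N' : ModuleCat.{u} A} (f : N ⟶ N') (x : U.toScheme)
    (m : N) : (DerSch.stalkFunctor U.toScheme x).map ((H1Punct.Φ U).map f) (germM U N x m) = germM U N' x (f m) := by
  refine (DerSch.stalkFunctor_map_germ x ((H1Punct.Φ U).map f) ⊤ trivial _).trans ?_
  exact congrArg ((phi U N').presheaf.germ ⊤ x trivial)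
    (congr($(tilde.toOpen_map_app (R := CommRingCat.of A) f (U.ι ''ᵁ ⊤)) m))

theorem germM_zero (U : (Spec (CommRingCat.of A)).Opens) (N : ModuleCat.{u} A) (x : U.toScheme) :
    germM U N x 0 = 0 :=
  (germM_eq_zero_iff U N x 0).2 ⟨1, fun h => (U.ι x).2.ne_top ((Ideal.eq_top_iff_one _).2 h), smul_zero _⟩

theorem eq_smul_inv {R M : Type*} [CommRing R] [AddCommGroup M] [Module R M] {g : R} (hg : IsUnit g) {v w : M}
    (h : g • v = w) : ∃ c : R, v = c • w := by
  obtain ⟨u, rfl⟩ := hg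
  exact ⟨(↑u⁻¹ : R), by rw [← h, smul_smul, Units.inv_mul, one_smul]⟩

/-- Maps bijective on the open give isomorphisms of sheaves. -/
theorem isIso_phi_map (U : (Spec (CommRingCat.of A)).Opens) {N N' : ModuleCat.{u} A} (f : N ⟶ N')
    (h : ∀ x : U.toScheme, BijAt f.hom (U.ι x).asIdeal) : IsIso ((H1Punct.Φ U).map f) := by
  haveI : Epi ((H1Punct.Φ U).map f) := HomShX.epi_of_stalk _ fun x v => by
    obtain ⟨m, g, hg, hv⟩ := exists_germM U N' x v
    obtain ⟨s, hs, y, hy⟩ := (h x).2 m
    obtain ⟨c, hc⟩ := eq_smul_inv ((isUnit_germA U x s hs).mul (isUnit_germA U x g hg)) (v := v)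
      (w := germM U N' x (f y)) (by rw [mul_smul, hv, ← germM_smul]; exact congrArg (germM U N' x) hy.symm)
    refine ⟨c • germM U N x y, ?_⟩
    refine (map_smul ((DerSch.stalkFunctor U.toScheme x).map ((H1Punct.Φ U).map f)).hom c _).trans ?_
    exact (congrArg (fun z => c • z) (germM_natural U f x y)).trans hc.symm
  haveI : Mono ((H1Punct.Φ U).map f) := HomShX.mono_of_stalk _ fun x => (injective_iff_map_eq_zero _).2 fun v hv => by
    obtain ⟨m, g, hg, hgv⟩ := exists_germM U N x v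
    have h0 : germM U N' x (f m) = 0 := by
      rw [← germM_natural, ← hgv, map_smul]
      exact (congrArg (fun z => germA U x g • z) hv).trans (smul_zero _)
    obtain ⟨s, hs, hs0⟩ := (germM_eq_zero_iff U N' x (f m)).1 h0
    rw [← map_smul] at hs0
    obtain ⟨r, hr, hr0⟩ := (h x).1 _ hs0
    rw [smul_smul] at hr0
    have h1 : germM U N x m = 0 :=
      (germM_eq_zero_iff U N x m).2 ⟨r * s, fun hm => ((U.ι x).2.mem_or_mem hm).elim hr hs, hr0⟩
    obtain ⟨u, hu⟩ := isUnit_germA U x g hg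
    rw [← hgv, ← hu] at h1
    exact u.isUnit.smul_eq_zero.1 h1
  exact isIso_of_mono_of_epi _

/-- A module giving an invertible sheaf on the open is free of rank one at its points. -/
theorem rk1_of_isInvertible (U : (Spec (CommRingCat.of A)).Opens) (N : ModuleCat.{u} A)
    (hN : PicF.IsInvertible (phi U N)) (x : U.toScheme) : Rk1 N (U.ι x).asIdeal := by
  obtain ⟨ε⟩ := H23.InvStalk.exists_stalk_equiv hN x
  obtain ⟨e, g₀, hg₀, he⟩ := exists_germM U N x (ε.symm 1)
  have hgen : ∀ v, v = ε v • ε.symm 1 := fun v => ε.injective (by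
    rw [map_smul, ε.apply_symm_apply, smul_eq_mul, mul_one])
  obtain ⟨u, hu⟩ := isUnit_germA U x g₀ hg₀
  have hfree : ∀ r : U.toScheme.presheaf.stalk x, r • germM U N x e = 0 → r = 0 := fun r hr => by
    rw [← he, smul_smul] at hr
    have h1 := congrArg ε hr
    rw [map_smul, ε.apply_symm_apply, map_zero, smul_eq_mul, mul_one, ← hu] at h1
    exact u.mul_left_eq_zero.1 h1
  have hsurj : ∀ m : N, ∃ r : U.toScheme.presheaf.stalk x, r • germM U N x e = germM U N x m := fun m =>
    ⟨ε (germM U N x m) * (↑u⁻¹ : U.toScheme.presheaf.stalk x), by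
      rw [← he, smul_smul, mul_assoc, ← hu, Units.inv_mul, mul_one]
      exact (hgen _).symm⟩
  refine ⟨e, fun m => ?_, fun a ha => ?_⟩
  · obtain ⟨r, hr⟩ := hsurj m
    obtain ⟨b, h, hh, hb⟩ := exists_germA_fraction U x r
    have h0 : germM U N x (h • m + (-b) • e) = 0 := by
      rw [germM_add, germM_smul, germM_smul, ← hr, smul_smul, hb, ← add_smul,
        show germA U x b + germA U x (-b) = 0 by simp [germA], zero_smul]
    obtain ⟨s, hs, hs0⟩ := (germM_eq_zero_iff U N x _).1 h0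
    refine ⟨s * h, fun hm => ((U.ι x).2.mem_or_mem hm).elim hs hh, s * b, ?_⟩
    rw [smul_add, neg_smul, smul_neg, ← sub_eq_add_neg, sub_eq_zero] at hs0
    rw [mul_smul, mul_smul, hs0]
  · refine exists_kill_germA U x a (hfree _ ?_)
    rw [← germM_smul, ha, germM_zero]

variable [IsNoetherianRing A]

/-- A module free of rank one on the open gives an invertible sheaf. -/
theorem isInvertible_of_rk1 (U : (Spec (CommRingCat.of A)).Opens) (N : ModuleCat.{u} A) [Module.Finite A N]
    (h : ∀ x : U.toScheme, Rk1 N (U.ι x).asIdeal) : PicF.IsInvertible (phi U N) := by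
  intro y
  obtain ⟨e, he, ha⟩ := h y
  obtain ⟨s, hs, hse⟩ := exists_uniform (U.ι y).2 (Submodule.span A {e}) fun x => by
    obtain ⟨s, hs, a, hsa⟩ := he x
    exact ⟨s, hs, Submodule.mem_span_singleton.2 ⟨a, hsa.symm⟩⟩
  let K : Ideal A := LinearMap.ker (LinearMap.toSpanSingleton A N e)
  haveI : Module.Finite A K := Module.Finite.iff_fg.2 (IsNoetherian.noetherian K)
  obtain ⟨t, ht, hte⟩ := exists_uniform (M := K) (U.ι y).2 ⊥ fun k => by
    obtain ⟨s, hs, hsk⟩ := ha k.1 k.2
    exact ⟨s, hs, (Submodule.mem_bot A).2 (Subtype.ext hsk)⟩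
  obtain ⟨_, ⟨_, ⟨g, rfl⟩, rfl⟩, hyg, hgU⟩ :=
    (PrimeSpectrum.isBasis_basic_opens (R := A)).exists_subset_of_mem_open (show y.1 ∈ (U : Set _) from y.2) U.isOpen
  let f : A := s * t * g
  have hfp : f ∉ (U.ι y).asIdeal := fun hm =>
    ((U.ι y).2.mem_or_mem hm).elim (fun h => ((U.ι y).2.mem_or_mem h).elim hs ht) hyg
  obtain ⟨i⟩ := ParaRel.nonempty_iso_basicOpenM (R := CommRingCat.of A) N f e
    (fun x => by
      obtain ⟨a, ha⟩ := Submodule.mem_span_singleton.1 (hse x)
      refine ⟨1, t * g * a, ?_⟩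
      show (s * t * g) ^ 1 • x = (t * g * a) • e
      rw [pow_one, mul_assoc s t g, mul_comm s (t * g), mul_smul, ← ha, ← mul_smul])
    (fun a ha => ⟨1, by
      have h1 : t * a = 0 := congrArg Subtype.val ((Submodule.mem_bot A).1 (hte ⟨a, ha⟩))
      show (s * t * g) ^ 1 * a = 0
      rw [pow_one, show s * t * g * a = s * g * (t * a) by ring, h1, mul_zero]⟩)
  let B : (Spec (CommRingCat.of A)).Opens := ParaFX.bo (R := CommRingCat.of A) f
  have hBU : B ≤ U := fun x hx => hgU (by
    intro hgx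
    exact hx (Ideal.mul_mem_left _ (s * t) hgx))
  let W : U.toScheme.Opens := U.ι ⁻¹ᵁ B
  have hle : U.ι ''ᵁ W ≤ B := by
    rintro _ ⟨z, hz, rfl⟩
    exact hz
  let b : (W : Scheme.{u}) ⟶ (B : Scheme.{u}) := (U.ι.isoImage W).hom ≫ (Spec (CommRingCat.of A)).homOfLE hle
  have hb : b ≫ B.ι = W.ι ≫ U.ι := by simp [b]
  exact ⟨W, hfp, ⟨ParaFX.restrictTwice _ W.ι U.ι ≪≫ ((Scheme.Modules.restrictFunctorCongr hb).app _).symm ≪≫
    (ParaFX.restrictTwice _ b B.ι).symm ≪≫ (Scheme.Modules.restrictFunctor b).mapIso i ≪≫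
    Scheme.Modules.restrictUnitIso b⟩⟩

variable (a : Ideal A)

local notation "Ua" => LocCoh.puncturedOpen A a

theorem germ_eSec (N : ModuleCat.{u} A) (x : ((Ua : (Spec (CommRingCat.of A)).Opens)).toScheme) (m : N) :
    secGerm Ua (PhiU a N) x (eSec a N m) = germM Ua N x m := by
  refine congrArg ((PhiU a N).presheaf.germ ⊤ x trivial) ?_
  show ((unitMap a N).app ⊤) (tilde.toOpen (R := CommRingCat.of A) N ⊤ m) = _
  rw [Scheme.Modules.restrictAdjunction_unit_app_app]
  exact congr($(tilde.toOpen_res (R := CommRingCat.of A) N ⊤ _ (homOfLE le_top)) m)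

/-- A free generator of the sheaf gives a map from a power of the ideal. -/
theorem exists_hom_pow (M : ModuleCat.{u} A) [Module.Finite A M] (S : (secF Ua).obj (PhiU a M))
    (hgen : ∀ x v, ∃ r : (Ua : (Spec (CommRingCat.of A)).Opens).toScheme.presheaf.stalk x,
      r • secGerm Ua (PhiU a M) x S = v)
    (hfree : ∀ x (r : (Ua : (Spec (CommRingCat.of A)).Opens).toScheme.presheaf.stalk x),
      r • secGerm Ua (PhiU a M) x S = 0 → r = 0) :
    ∃ (k : ℕ) (f : (a ^ k : Ideal A) →ₗ[A] M), Function.Injective f ∧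
      ∀ p : Ideal A, p.IsPrime → ¬ a ≤ p → ∀ y : M, ∃ s ∉ p, s • y ∈ LinearMap.range f := by
  let e := (eSec a M).hom
  obtain ⟨n, hn⟩ := eSec_coker a M S
  obtain ⟨k₁, hk₁⟩ := exists_pow_inf_eq_bot a (LinearMap.ker e) fun x hx => eSec_ker a M hx
  obtain ⟨k₂, hk₂⟩ := exists_pow_inf_eq_bot (M := A) a (DRing.torsionSub a A) fun x hx => hx
  let j := max k₁ k₂
  have key : ∀ c ∈ a ^ j * a ^ n, ∃ y ∈ a ^ j • (⊤ : Submodule A M), e y = c • S := fun c hc => by
    refine Submodule.mul_induction_on hc (fun b hb d hd => ?_) fun b d hb hd => ?_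
    · obtain ⟨y, hy⟩ := hn d hd
      exact ⟨b • y, Submodule.smul_mem_smul hb Submodule.mem_top, by rw [map_smul, mul_smul]; exact congrArg _ hy⟩
    · obtain ⟨y, hy, hy'⟩ := hb
      obtain ⟨z, hz, hz'⟩ := hd
      exact ⟨y + z, add_mem hy hz, by rw [map_add, hy', hz', add_smul]⟩
  have huniq : ∀ y ∈ a ^ j • (⊤ : Submodule A M), e y = 0 → y = 0 := fun y hy h0 =>
    (Submodule.mem_bot A).1 ((hk₁ j (le_max_left _ _)).le ⟨hy, h0⟩)
  choose y hy hy' using fun c : (a ^ (j + n) : Ideal A) => key c.1 (by rw [← pow_add]; exact c.2)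
  let f : (a ^ (j + n) : Ideal A) →ₗ[A] M :=
    { toFun := y
      map_add' := fun c d => sub_eq_zero.1 (huniq _ (sub_mem (hy _) (add_mem (hy c) (hy d))) (by
        rw [map_sub, map_add, hy', hy', hy']; simp [add_smul]))
      map_smul' := fun r c => sub_eq_zero.1 (huniq _ (sub_mem (hy _) (Submodule.smul_mem _ r (hy c))) (by
        rw [map_sub, map_smul, hy', RingHom.id_apply, hy']; simp [mul_smul])) }
  have hfe : ∀ c x, germM Ua M x (f c) = germA Ua x c.1 • secGerm Ua (PhiU a M) x S := fun c x => by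
    rw [← germ_eSec, ← secGerm_smul]
    exact congrArg _ (hy' c)
  refine ⟨j + n, f, (injective_iff_map_eq_zero _).2 fun c hc => ?_, fun p hp hap m => ?_⟩
  · refine Subtype.ext ?_
    have hz : ∀ q : Ideal A, q.IsPrime → ¬ a ≤ q → ∃ h ∉ q, h * c.1 = 0 := fun q hq haq => by
      let x : (Ua : (Spec (CommRingCat.of A)).Opens).toScheme := ⟨⟨q, hq⟩, fun h => haq h⟩
      refine exists_kill_germA _ x c.1 (hfree x _ ?_)
      rw [← hfe, hc, germM_zero]
    let K : Ideal A := LinearMap.ker (LinearMap.toSpanSingleton A A c.1)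
    have hrad : a ≤ K.radical := by
      rw [Ideal.radical_eq_sInf]
      refine le_sInf fun q ⟨hKq, hq⟩ => ?_
      by_contra haq
      obtain ⟨h, hh, hh0⟩ := hz q hq haq
      exact hh (hKq hh0)
    obtain ⟨l, hl⟩ := Ideal.exists_pow_le_of_le_radical_of_fg hrad (IsNoetherian.noetherian a)
    have htor : c.1 ∈ DRing.torsionSub a A := ⟨l, fun b hb => hl hb⟩
    refine (Submodule.mem_bot A).1 ((hk₂ (j + n) (le_trans (le_max_right _ _) (Nat.le_add_right _ _))).le ⟨?_, htor⟩)
    rw [smul_eq_mul, Ideal.mul_top]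
    exact c.2
  · let x : (Ua : (Spec (CommRingCat.of A)).Opens).toScheme := ⟨⟨p, hp⟩, fun h => hap h⟩
    obtain ⟨r, hr⟩ := hgen x (germM Ua M x m)
    obtain ⟨b, h, hh, hb⟩ := exists_germA_fraction Ua x r
    obtain ⟨d, hda, hdp⟩ := SetLike.not_le_iff_exists.1 hap
    have hmem : d ^ (j + n) * b ∈ a ^ (j + n) := Ideal.mul_mem_right _ _ (Ideal.pow_mem_pow hda _)
    have h0 : germM Ua M x ((d ^ (j + n) * h) • m + (-1 : A) • f ⟨d ^ (j + n) * b, hmem⟩) = 0 := by
      rw [germM_add, germM_smul, germM_smul, hfe, ← hr, smul_smul, smul_smul, ← add_smul]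
      rw [show germA Ua x (d ^ (j + n) * h) * r + germA Ua x (-1) * germA Ua x (d ^ (j + n) * b) = 0 by
        have e1 : ∀ u v : A, germA Ua x (u * v) = germA Ua x u * germA Ua x v := fun u v => by simp [germA]
        have e2 : germA Ua x (-1) = -1 := by simp [germA]
        rw [e1, e1, e2]
        linear_combination germA Ua x (d ^ (j + n)) * hb]
      exact zero_smul _ _
    obtain ⟨s, hs, hs0⟩ := (germM_eq_zero_iff Ua M x _).1 h0
    refine ⟨s * (d ^ (j + n) * h), fun hm => (hp.mem_or_mem hm).elim hs fun h2 =>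
      (hp.mem_or_mem h2).elim (fun h3 => hdp (hp.mem_of_pow_mem _ h3)) hh, s • ⟨d ^ (j + n) * b, hmem⟩, ?_⟩
    rw [smul_add, smul_smul, smul_smul, mul_neg_one, neg_smul, ← sub_eq_add_neg, sub_eq_zero] at hs0
    rw [map_smul, hs0]

end Groth.Agent.PunctAlg
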