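import Groth.Agent.PunctAlg.Bridge
import Groth.Agent.PunctAlg.Finite

/-!
# Stalks of sheaves of modules on an open of an affine scheme
-/

set_option autoImplicit false
set_option linter.style.haveILetI false
set_option linter.unusedSectionVars false
set_option backward.isDefEq.respectTransparency false
set_option backward.isDefEq.respectTransparency.types false

universe u

open CategoryTheory CategoryTheory.Limits AlgebraicGeometry TopologicalSpace Opposite

noncomputable section

namespace Groth.Agent.PunctAlg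

open Groth.Agent

section General

variable {R : CommRingCat.{u}} (M : ModuleCat.{u} R)

theorem toStalk_eq_zero_iff (p : PrimeSpectrum.Top R) (m : M) :
    tilde.toStalk M p m = 0 ↔ ∃ g : R, g ∉ p.asIdeal ∧ g • m = 0 := by
  refine (IsLocalizedModule.eq_zero_iff p.asIdeal.primeCompl (tilde.toStalk M p).hom).trans ?_
  exact ⟨fun ⟨⟨g, hg⟩, h⟩ => ⟨g, hg, h⟩, fun ⟨g, hg, h⟩ => ⟨⟨g, hg⟩, h⟩⟩

theorem exists_toStalk (p : PrimeSpectrum.Top R) (W : (Spec R).Opens) (hp : p ∈ W) (s : Γ(tilde M, W)) :
    ∃ (m : M) (g : R), g ∉ p.asIdeal ∧ (tilde M).presheaf.germ W p hp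
      (((Spec R).presheaf.map (homOfLE (le_top (a := W))).op ((Scheme.ΓSpecIso R).inv g)) • s) =
        tilde.toStalk M p m := by
  obtain ⟨_, ⟨_, ⟨f, rfl⟩, rfl⟩, hpf, hfW⟩ :=
    (PrimeSpectrum.isBasis_basic_opens (R := R)).exists_subset_of_mem_open hp W.isOpen
  let D : (Spec R).Opens := PrimeSpectrum.basicOpen f
  haveI : IsLocalizedModule.Away f (tilde.toOpen M D).hom :=
    inferInstanceAs (IsLocalizedModule.Away f (tilde.toOpen M (PrimeSpectrum.basicOpen f)).hom)
  let sD := (modulesSpecToSheaf.obj (tilde M)).presheaf.map (homOfLE (show D ≤ W from hfW)).op s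
  obtain ⟨⟨m, ⟨_, k, rfl⟩⟩, h⟩ := IsLocalizedModule.surj (Submonoid.powers f) (tilde.toOpen M D).hom sD
  refine ⟨m, f ^ k, fun hg => hpf (p.2.mem_of_pow_mem k hg), ?_⟩
  have h1 : (tilde M).presheaf.map (homOfLE (show D ≤ W from hfW)).op
      (((Spec R).presheaf.map (homOfLE (le_top (a := W))).op ((Scheme.ΓSpecIso R).inv (f ^ k))) • s) =
      tilde.toOpen M D m :=
    (map_smul ((modulesSpecToSheaf.obj (tilde M)).presheaf.map (homOfLE (show D ≤ W from hfW)).op).hom
      (f ^ k) s).trans h
  rw [← TopCat.Presheaf.germ_res_apply (tilde M).presheaf (homOfLE (show D ≤ W from hfW)) p hpf, h1]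
  exact (congrArg ((tilde M).presheaf.germ D p hpf)
    (congr($(tilde.toOpen_res M ⊤ D (homOfLE le_top)) m)).symm).trans
    (TopCat.Presheaf.germ_res_apply (tilde M).presheaf (homOfLE le_top) p hpf _)

theorem isUnit_germ_top (p : PrimeSpectrum.Top R) (g : R) (hg : g ∉ p.asIdeal) :
    IsUnit ((Spec R).presheaf.germ ⊤ p trivial ((Scheme.ΓSpecIso R).inv g)) := by
  have : IsUnit (algebraMap R ((Spec.structureSheaf R).presheaf.stalk p) g) :=
    IsLocalization.map_units (R := R) ((Spec.structureSheaf R).presheaf.stalk p)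
      (⟨g, hg⟩ : p.asIdeal.primeCompl)
  exact this

end General

variable {A : Type u} [CommRing A] (U : (Spec (CommRingCat.of A)).Opens) (N : ModuleCat.{u} A)

/-- The sheaf of a module on the open. -/
abbrev phi : U.toScheme.Modules := (H1Punct.Φ U).obj N

/-- An element as a germ of the sheaf on the open. -/
def germM (x : U.toScheme) (m : N) : (DerSch.stalkFunctor U.toScheme x).obj (phi U N) :=
  (phi U N).presheaf.germ ⊤ x trivial (tilde.toOpen (R := CommRingCat.of A) N (U.ι ''ᵁ ⊤) m)

theorem germM_add (x : U.toScheme) (m m' : N) : germM U N x (m + m') = germM U N x m + germM U N x m' := by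
  rw [germM, map_add]
  exact map_add ((phi U N).presheaf.germ ⊤ x trivial).hom _ _

theorem germM_smul (x : U.toScheme) (a : A) (m : N) :
    germM U N x (a • m) = germA U x a • germM U N x m := by
  let W : (Spec (CommRingCat.of A)).Opens := U.ι ''ᵁ ⊤
  have h1 : tilde.toOpen (R := CommRingCat.of A) N W (a • m) =
      ((Spec (CommRingCat.of A)).presheaf.map (homOfLE (le_top (a := W))).op
        ((Scheme.ΓSpecIso (CommRingCat.of A)).inv a)) •
        (show Γ(tilde (R := CommRingCat.of A) N, W) from tilde.toOpen (R := CommRingCat.of A) N W m) :=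
    map_smul (tilde.toOpen (R := CommRingCat.of A) N W).hom a m
  have h2 : (Spec (CommRingCat.of A)).presheaf.map (homOfLE (le_top (a := W))).op
      ((Scheme.ΓSpecIso (CommRingCat.of A)).inv a) =
      (U.ι.appIso ⊤).inv (Coh.toGlobal (U.toScheme ↘ Spec (CommRingCat.of A)) a) := by
    refine (Algz7.appIso_inv_res U.ι ⊤ _).trans (congrArg _ ?_)
    rw [show (homOfLE (le_top (a := (⊤ : U.toScheme.Opens)))).op = 𝟙 _ from rfl, U.toScheme.presheaf.map_id]
    rfl
  rw [germM, h1, h2]
  exact QCoh.germ_smul' (phi U N) (show x ∈ (⊤ : U.toScheme.Opens) from trivial)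
    (Coh.toGlobal (U.toScheme ↘ Spec (CommRingCat.of A)) a) (tilde.toOpen (R := CommRingCat.of A) N W m)

theorem stalkIso_germM (x : U.toScheme) (m : N) :
    (Scheme.Modules.restrictStalkNatIso U.ι x).hom.app (tilde (R := CommRingCat.of A) N) (germM U N x m) =
      tilde.toStalk (R := CommRingCat.of A) N (U.ι x) m := by
  have h := congr($(Scheme.Modules.germ_restrictStalkNatIso_hom_app U.ι x
    (tilde (R := CommRingCat.of A) N) (U := (⊤ : U.toScheme.Opens)) trivial)
    (tilde.toOpen (R := CommRingCat.of A) N (U.ι ''ᵁ ⊤) m))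
  refine h.trans ?_
  exact (congrArg ((tilde (R := CommRingCat.of A) N).presheaf.germ (U.ι ''ᵁ ⊤) (U.ι x) ⟨x, trivial, rfl⟩)
    (congr($(tilde.toOpen_res (R := CommRingCat.of A) N ⊤ (U.ι ''ᵁ ⊤) (homOfLE le_top)) m)).symm).trans
    (TopCat.Presheaf.germ_res_apply (tilde (R := CommRingCat.of A) N).presheaf (homOfLE le_top) (U.ι x) _ _)

theorem germM_eq_zero_iff (x : U.toScheme) (m : N) :
    germM U N x m = 0 ↔ ∃ g : A, g ∉ (U.ι x).asIdeal ∧ g • m = 0 := by
  haveI : IsIso ((Scheme.Modules.restrictStalkNatIso U.ι x).hom.app (tilde (R := CommRingCat.of A) N)) :=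
    inferInstance
  have hb := ConcreteCategory.bijective_of_isIso
    ((Scheme.Modules.restrictStalkNatIso U.ι x).hom.app (tilde (R := CommRingCat.of A) N))
  have h0 : germM U N x m = 0 ↔ tilde.toStalk (R := CommRingCat.of A) N (U.ι x) m = 0 := by
    rw [← stalkIso_germM]
    exact ⟨fun h => (congrArg _ h).trans (map_zero _), fun h => hb.1 (h.trans (map_zero _).symm)⟩
  rw [h0]
  exact toStalk_eq_zero_iff (R := CommRingCat.of A) N (U.ι x) m

theorem isUnit_germA (x : U.toScheme) (g : A) (hg : g ∉ (U.ι x).asIdeal) : IsUnit (germA U x g) := by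
  have h1 : IsUnit ((Spec (CommRingCat.of A)).presheaf.germ ⊤ (U.ι x) trivial
      ((Scheme.ΓSpecIso (CommRingCat.of A)).inv g)) := by
    exact isUnit_germ_top (R := CommRingCat.of A) (U.ι x) g hg
  have h2 : germA U x g = U.ι.stalkMap x ((Spec (CommRingCat.of A)).presheaf.germ ⊤ (U.ι x) trivial
      ((Scheme.ΓSpecIso (CommRingCat.of A)).inv g)) := by
    rw [germA, toGlobal_opens]
    exact (Scheme.Hom.germ_stalkMap_apply U.ι ⊤ x trivial _).symm
  rw [h2]
  exact h1.map (U.ι.stalkMap x).hom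

theorem exists_germM (x : U.toScheme) (v : (DerSch.stalkFunctor U.toScheme x).obj (phi U N)) :
    ∃ (m : N) (g : A), g ∉ (U.ι x).asIdeal ∧ germA U x g • v = germM U N x m := by
  let e := (Scheme.Modules.restrictStalkNatIso U.ι x).hom.app (tilde (R := CommRingCat.of A) N)
  have hb := ConcreteCategory.bijective_of_isIso e
  obtain ⟨V, hV, s, rfl⟩ := TopCat.Presheaf.exists_germ_eq (phi U N).presheaf v
  let W := U.ι ''ᵁ V
  have hx' : U.ι x ∈ W := ⟨x, hV, rfl⟩
  obtain ⟨m, g, hg, h⟩ := exists_toStalk (R := CommRingCat.of A) N (U.ι x) W hx' s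
  refine ⟨m, g, hg, hb.1 (Eq.trans ?_ (stalkIso_germM U N x m).symm)⟩
  refine Eq.trans ?_ h
  have h2 : U.toScheme.presheaf.germ V x hV (U.toScheme.presheaf.map (homOfLE (le_top (a := V))).op
      (Coh.toGlobal (U.toScheme ↘ Spec (CommRingCat.of A)) g)) = germA U x g :=
    U.toScheme.presheaf.germ_res_apply (homOfLE (le_top (a := V))) x hV _
  rw [← h2]
  refine (congrArg e (QCoh.germ_smul' (phi U N) hV _ s).symm).trans ?_
  refine (congr($(Scheme.Modules.germ_restrictStalkNatIso_hom_app U.ι x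
      (tilde (R := CommRingCat.of A) N) (U := V) hV) _)).trans ?_
  refine congrArg ((tilde (R := CommRingCat.of A) N).presheaf.germ W (U.ι x) hx') ?_
  exact congrArg (fun r => r • (show Γ(tilde (R := CommRingCat.of A) N, W) from s))
    (Algz7.appIso_inv_res U.ι V ((Scheme.ΓSpecIso (CommRingCat.of A)).inv g)).symm

end Groth.Agent.PunctAlg
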